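import Mathlib
import Cfsg.Agent.Lib.BenderOne8.Regular

/-!
# Bender's theorem, part one, node C2: interface of the single case

See `notes/bender_nodeC2_master_helper8.md`.  `a`, `b` are two points, `D = G_ab`, `J` the involutions
at `a`, `L = ⟨J⟩`.
-/

set_option autoImplicit false
set_option linter.style.haveILetI false

namespace Cfsg.Agent.Lib.BenderOne8.Single

open MulAction Cfsg.Agent.Lib.Involutions.Basic
open Cfsg.Agent.Lib.BenderOne20

universe u

variable {G Ω : Type u} [Group G] [MulAction G Ω]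

/-- The standing hypotheses: one fixed point per involution, property (F), induction, no centre
and a four group at every point. -/
structure Ctx (G Ω : Type u) [Group G] [MulAction G Ω] : Prop where
  fix : OneFix G Ω
  propF : PropF G Ω
  below : BenderOne.Below.{u} (Nat.card G)
  center : Subgroup.center G = ⊥
  four : ∀ a : Ω, ∃ s ∈ invAt G a, ∃ t ∈ invAt G a, s ≠ t ∧ s * t = t * s

/-- `X` fixes three points and exactly one involution at `a` centralises it. -/
def IsSingle (X : Subgroup G) (a : Ω) : Prop :=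
  Three X Ω ∧ a ∈ Fx X ∧ Nat.card (invCen X a) = 1

/-- `X` fixes three points and at least two involutions at `a` centralise it. -/
def IsGood (X : Subgroup G) (a : Ω) : Prop :=
  Three X Ω ∧ a ∈ Fx X ∧ 1 < Nat.card (invCen X a)

/-- The involutions at `a` commute (`J + 1` is an elementary abelian group). -/
def Comm (G : Type u) {Ω : Type u} [Group G] [MulAction G Ω] (a : Ω) : Prop :=
  ∀ s ∈ invAt G a, ∀ t ∈ invAt G a, s * t = t * s

/-- Only the identity of `G_ab` centralises all involutions at `a`. -/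
def W0One (G : Type u) {Ω : Type u} [Group G] [MulAction G Ω] (a b : Ω) : Prop :=
  ∀ d ∈ pairStab G a b, (∀ t ∈ invAt G a, d * t = t * d) → d = 1

/-- Some subgroup of prime power order of `G_ab` is single. -/
def HasSingle (G : Type u) {Ω : Type u} [Group G] [MulAction G Ω] (a b : Ω) : Prop :=
  ∃ (p : ℕ) (X : Subgroup G), p.Prime ∧ IsPGroup p X ∧ X ≤ pairStab G a b ∧ IsSingle X a

/-- `G_a` has a normal subgroup regular on the other points. -/
def Reg (G : Type u) {Ω : Type u} [Group G] [MulAction G Ω] (a : Ω) : Prop :=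
  ∃ Q : Subgroup G, Q ≤ stabilizer G a ∧
    (∀ h ∈ stabilizer G a, ∀ q ∈ Q, h * q * h⁻¹ ∈ Q) ∧
    (∀ q ∈ Q, ∀ y, y ≠ a → q • y = y → q = 1) ∧
    ∀ y z, y ≠ a → z ≠ a → ∃ q ∈ Q, q • y = z

/-- `L = ⟨J⟩`. -/
abbrev invGp (G : Type u) {Ω : Type u} [Group G] [MulAction G Ω] (a : Ω) : Subgroup G :=
  Subgroup.closure (invAt G a)

/-- `D ∩ L`. -/
abbrev dL (G : Type u) {Ω : Type u} [Group G] [MulAction G Ω] (a b : Ω) : Subgroup G :=
  invGp G a ⊓ pairStab G a b

/-- `D ∩ L` is transitive on the involutions at `a`. -/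
def TransJ (G : Type u) {Ω : Type u} [Group G] [MulAction G Ω] (a b : Ω) : Prop :=
  ∀ s ∈ invAt G a, ∀ t ∈ invAt G a, ∃ d ∈ dL G a b, d * s * d⁻¹ = t

/-- A prime of `(D ∩ L)^ab`: the Sylow subgroup is cyclic, all its subgroups are single, and it
has a normal complement. -/
structure TopAt (q : ℕ) (T : Subgroup G) (a b : Ω) : Prop where
  prime : q.Prime
  sylow : SylowIn q T (dL G a b)
  ne_bot : T ≠ ⊥
  cyclic : IsCyclic T
  single : ∀ X : Subgroup G, X ≤ T → X ≠ ⊥ → IsSingle X a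
  compl : ∃ C : Subgroup G, C ≤ dL G a b ∧ C ⊓ T = ⊥ ∧ C ⊔ T = dL G a b ∧
    ∀ d ∈ dL G a b, ∀ c ∈ C, d * c * d⁻¹ ∈ C

/-- Case `F(D) ∩ Y = 1`: `D ∩ L` is the product of an abelian `K` inverted by the swapper and of
`Y`, which is fixed point free on `K` and of order prime to `m`. -/
structure ShapeA (a b : Ω) (u : G) (K Y : Subgroup G) : Prop where
  swap : u ∈ swapSet G a b
  hY : Y = dL G a b ⊓ Subgroup.centralizer {u}
  le : K ≤ dL G a b
  normal : ∀ d ∈ dL G a b, ∀ k ∈ K, d * k * d⁻¹ ∈ K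
  inverts : ∀ k ∈ K, u * k * u⁻¹ = k⁻¹
  inf : K ⊓ Y = ⊥
  sup : K ⊔ Y = dL G a b
  comm : ∀ k ∈ K, ∀ k' ∈ K, k * k' = k' * k
  free : ∀ y ∈ Y, y ≠ 1 → ∀ k ∈ K, y * k = k * y → k = 1
  coprime : (Nat.card Y).Coprime (Nat.card (invAt G a))
  card : Nat.card K = Nat.card (invAt G a)
  trans : TransJ G a b

/-- Case of a good element in `F(D)`: `D ∩ L = (R × Z) T` with `T` of prime order, fixed point free
on `R × Z`, the elements of `Z` fixing just `a` and `b`, and `R` containing good elements. -/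
structure ShapeB (a b : Ω) (u : G) (r q : ℕ) (R Z T : Subgroup G) : Prop where
  swap : u ∈ swapSet G a b
  rprime : r.Prime
  qprime : q.Prime
  qcard : Nat.card T = q
  le : R ⊔ Z ⊔ T = dL G a b
  commT : T ≤ Subgroup.centralizer {u}
  pgroup : IsPGroup r R
  cop : (Nat.card R).Coprime (Nat.card Z)
  cyclic : IsCyclic Z
  ne_bot : Z ≠ ⊥
  comm : ∀ x ∈ R, ∀ z ∈ Z, x * z = z * x
  normR : ∀ d ∈ dL G a b, ∀ x ∈ R, d * x * d⁻¹ ∈ R
  normZ : ∀ d ∈ dL G a b, ∀ z ∈ Z, d * z * d⁻¹ ∈ Z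
  normu : u ∈ Subgroup.normalizer (R : Set G)
  inverts : ∀ z ∈ Z, u * z * u⁻¹ = z⁻¹
  free : ∀ τ ∈ T, τ ≠ 1 → ∀ x ∈ R ⊔ Z, τ * x = x * τ → x = 1
  good : ∃ x ∈ R, x ≠ 1 ∧ x * u = u * x
  tfix : ∃ t ∈ invAt G a, ∀ y ∈ dL G a b, y * t = t * y ↔ y * u = u * y
  trans : TransJ G a b

/-- Case II: `J` commutes and `W₀ = 1`. -/
def PropCommEnd.{w} : Prop :=
  ∀ (G Ω : Type w) [Group G] [MulAction G Ω] [Finite G] (a b : Ω), Ctx G Ω → b ≠ a →
    W0One G a b → Comm G a → HasSingle G a b → Reg G a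

/-- Case III (2): primes of `(D ∩ L)^ab`. -/
def PropTop.{w} : Prop :=
  ∀ (G Ω : Type w) [Group G] [MulAction G Ω] [Finite G] (a b : Ω), Ctx G Ω → b ≠ a →
    W0One G a b → ¬ Comm G a → TransJ G a b → ∀ (q : ℕ) (N : Subgroup (dL G a b)),
      q.Prime → N.Normal → N.index = q → ∃ T : Subgroup G, TopAt q T a b

/-- Case III (3), (4): the shape of `D ∩ L`. -/
def PropShape.{w} : Prop :=
  ∀ (G Ω : Type w) [Group G] [MulAction G Ω] [Finite G] (a b : Ω), Ctx G Ω → b ≠ a →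
    W0One G a b → ¬ Comm G a → HasSingle G a b → Reg G a ∨ (TransJ G a b ∧
      (IsPrimePow (Nat.card (invAt G a)) ∨
        (∃ (u : G) (K Y : Subgroup G), ShapeA a b u K Y) ∨
        ∃ (u : G) (r q : ℕ) (R Z T : Subgroup G), ShapeB a b u r q R Z T))

/-- Case III (5), `m` a prime power. -/
def PropEndPrimePow.{w} : Prop :=
  ∀ (G Ω : Type w) [Group G] [MulAction G Ω] [Finite G] (a b : Ω), Ctx G Ω → b ≠ a →
    ¬ Comm G a → TransJ G a b → IsPrimePow (Nat.card (invAt G a)) → False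

/-- Case III (5), `F(D) ∩ Y = 1`. -/
def PropEndA.{w} : Prop :=
  ∀ (G Ω : Type w) [Group G] [MulAction G Ω] [Finite G] (a b : Ω), Ctx G Ω → b ≠ a →
    ∀ (u : G) (K Y : Subgroup G), ShapeA a b u K Y → Comm G a

/-- Case III (5), a good element in `F(D)`. -/
def PropEndB.{w} : Prop :=
  ∀ (G Ω : Type w) [Group G] [MulAction G Ω] [Finite G] (a b : Ω), Ctx G Ω → b ≠ a →
    W0One G a b → ∀ (u : G) (r q : ℕ) (R Z T : Subgroup G), ShapeB a b u r q R Z T → False

end Cfsg.Agent.Lib.BenderOne8.Single
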