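import Mathlib
import Cfsg.Agent.Lib.BenderOne8.Single.Interface
import Cfsg.Agent.Lib.BenderOne83.C2.CentralRegular

/-!
# Bender's theorem, part one, node C2: assembly of the single case
-/

set_option autoImplicit false
set_option linter.style.haveILetI false

namespace Cfsg.Agent.Lib.BenderOne8.Single

open MulAction Cfsg.Agent.Lib.Involutions.Basic
open Cfsg.Agent.Lib.BenderOne20

universe u

variable {G Ω : Type u} [Group G] [MulAction G Ω] [Finite G]

theorem ctx_of_min {H : Subgroup G} (hmin : BenderOne.Min G H) (hNB : BenderOne.NoBad H) :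
    Ctx G (G ⧸ H) := by
  haveI := hmin.simple
  have hG := oneFix_of_stronglyEmbedded hmin.se
  refine ⟨hG, propF_of_noBad hNB, hmin.below, center_eq_bot (H := H) (fun h => ?_) hmin.se.1, ?_⟩
  · have := hmin.se.2.1
    rw [h, Subgroup.card_bot] at this
    exact Nat.not_even_one this
  intro a
  obtain ⟨s, hs, t, ht, hne, hst⟩ := hasFour_iff.1 hmin.four
  haveI := hG.trans
  obtain ⟨g, rfl⟩ := exists_smul_eq G ((1 : G) : G ⧸ H) a
  refine ⟨_, OneFix.conj_mem_invAt hs, _, OneFix.conj_mem_invAt ht, fun h => hne ?_, ?_⟩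
  · exact mul_left_cancel (mul_right_cancel h)
  · calc g * s * g⁻¹ * (g * t * g⁻¹) = g * (s * t) * g⁻¹ := by group
      _ = g * (t * s) * g⁻¹ := by rw [hst]
      _ = g * t * g⁻¹ * (g * s * g⁻¹) := by group

theorem Ctx.card_invAt (h : Ctx G Ω) (a : Ω) : 1 < Nat.card (invAt G a) := by
  obtain ⟨s, hs, t, ht, hne, -⟩ := h.four a
  exact Finite.one_lt_card_iff_nontrivial.2
    ⟨⟨s, hs⟩, ⟨t, ht⟩, fun e => hne (congrArg Subtype.val e)⟩

omit [Finite G] in
/-- A regular normal subgroup moves with the point. -/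
theorem Reg.smul {a : Ω} (h : Reg G a) (g : G) : Reg G (g • a) := by
  obtain ⟨Q, hQ, hconj, hfree, htr⟩ := h
  have hst : ∀ {x : G}, x ∈ stabilizer G (g • a) → g⁻¹ * x * g ∈ stabilizer G a := fun {x} hx => by
    show (g⁻¹ * x * g) • a = a
    rw [mul_smul, mul_smul, (hx : x • g • a = g • a), inv_smul_smul]
  have hne : ∀ {y : Ω}, y ≠ g • a → g⁻¹ • y ≠ a := fun {y} hy e => hy (inv_smul_eq_iff.1 e)
  refine ⟨Q.map (MulAut.conj g).toMonoidHom, ?_, ?_, ?_, ?_⟩
  · rintro _ ⟨q, hq, rfl⟩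
    show (g * q * g⁻¹) • g • a = g • a
    rw [mul_smul, mul_smul, inv_smul_smul, (hQ hq : q • a = a)]
  · rintro x hx _ ⟨q, hq, rfl⟩
    exact ⟨_, hconj _ (hst hx) q hq, by simp [mul_assoc]⟩
  · rintro _ ⟨q, hq, rfl⟩ y hy hfix
    have h1 : q • g⁻¹ • y = g⁻¹ • y := by
      have : (g * q * g⁻¹) • y = y := hfix
      rwa [mul_smul, mul_smul, ← eq_inv_smul_iff] at this
    rw [hfree q hq _ (hne hy) h1, map_one]
  · intro y z hy hz
    obtain ⟨q, hq, hqy⟩ := htr _ _ (hne hy) (hne hz)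
    refine ⟨g * q * g⁻¹, ⟨q, hq, rfl⟩, ?_⟩
    rw [mul_smul, mul_smul, hqy, smul_inv_smul]

/-- A single subgroup forces a regular normal subgroup. -/
theorem reg_of_single (hC : PropCommEnd.{u}) (hS : PropShape.{u}) (hP : PropEndPrimePow.{u})
    (hA : PropEndA.{u}) (hB : PropEndB.{u}) (hctx : Ctx G Ω) {a b : Ω} (hab : b ≠ a)
    (hsing : HasSingle G a b) : Reg G a := by
  by_cases hW : W0One G a b
  · by_cases hcomm : Comm G a
    · exact hC G Ω a b hctx hab hW hcomm hsing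
    rcases hS G Ω a b hctx hab hW hcomm hsing with h | ⟨htr, h | ⟨u, K, Y, h⟩ | ⟨u, r, q, R, Z, T, h⟩⟩
    · exact h
    · exact (hP G Ω a b hctx hab hcomm htr h).elim
    · exact (hcomm (hA G Ω a b hctx hab u K Y h)).elim
    · exact (hB G Ω a b hctx hab hW u r q R Z T h).elim
  · unfold W0One at hW
    push Not at hW
    obtain ⟨w, hw, hwJ, hw1⟩ := hW
    exact BenderOne83.Central.exists_regular_of_central hctx.fix hctx.propF hctx.below hctx.center
      hab (hctx.card_invAt a) hw hw1 hwJ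

/-- Node C2 from the nodes of the single case. -/
theorem propRegular (hC : PropCommEnd.{u}) (hS : PropShape.{u}) (hP : PropEndPrimePow.{u})
    (hA : PropEndA.{u}) (hB : PropEndB.{u}) : BenderOne.PropRegular.{u} := by
  intro _ G _ _ H hmin _ hNB _
  by_cases hgood : SingleGood G (G ⧸ H)
  · exact regular_of_singleGood hmin hNB hgood
  have hctx := ctx_of_min hmin hNB
  unfold SingleGood at hgood
  push Not at hgood
  obtain ⟨p, X, a, b, hp, hXp, -, h3, ha, hb, hba, hone, -⟩ := hgood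
  haveI := hctx.fix.trans
  obtain ⟨g, hg⟩ := exists_smul_eq G a ((1 : G) : G ⧸ H)
  have hreg := Reg.smul (reg_of_single hC hS hP hA hB hctx hba
    ⟨p, X, hp, hXp, le_pairStab ha hb, h3, ha, hone⟩) g
  rw [hg] at hreg
  obtain ⟨Q, hQ, hconj, hfree, htr⟩ := hreg
  refine ⟨Q, ⟨fun q hq => mem_stabilizer_one.1 (hQ hq),
    fun h hh q hq => hconj h (mem_stabilizer_one.2 hh) q hq,
    fun g hg q hq hqg => hfree q hq _ (BenderOne.ne_one_iff.2 hg)
      (BenderOne.smul_eq_self_iff.2 hqg), fun g₁ g₂ h1 h2 => ?_⟩⟩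
  obtain ⟨q, hq, hq'⟩ := htr _ _ (BenderOne.ne_one_iff.2 h1) (BenderOne.ne_one_iff.2 h2)
  refine ⟨q, hq, ?_⟩
  rw [Quotient.smul_mk, smul_eq_mul, eq_comm, QuotientGroup.eq] at hq'
  exact hq'

end Cfsg.Agent.Lib.BenderOne8.Single
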