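import Mathlib
import Cfsg.Agent.Lib.BenderOne8.Single.Main

/-!
# Bender's theorem, part one, node C2: `L = ⟨J⟩`

If the involutions at `a` do not all commute, `L` is transitive on the other points.  Either no
subgroup of prime power order of `D ∩ L` is single, and then `G_a` has a regular normal subgroup,
or `D ∩ L` is transitive on the involutions at `a`.
-/

set_option autoImplicit false
set_option linter.style.haveILetI false
set_option linter.unusedSectionVars false

namespace Cfsg.Agent.Lib.BenderOne8.Single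

open MulAction Cfsg.Agent.Lib.Involutions.Basic
open Cfsg.Agent.Lib.BenderOne20

universe u

variable {G Ω : Type u} [Group G] [MulAction G Ω] [Finite G]

omit [Finite G] in
theorem map_conj_of_mem {H : Subgroup G} {g : G} (hg : g ∈ Subgroup.normalizer (H : Set G)) :
    H.map (MulAut.conj g).toMonoidHom = H :=
  Subgroup.mem_normalizer_iff_map_conj_eq.1 hg

omit [Finite G] in
theorem invGp_le (a : Ω) : invGp G a ≤ stabilizer G a :=
  (Subgroup.closure_le _).2 fun _ ht => ht.2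

omit [Finite G] in
theorem invGp_conj {a : Ω} {g x : G} (hg : g • a = a) (hx : x ∈ invGp G a) :
    g * x * g⁻¹ ∈ invGp G a := by
  induction hx using Subgroup.closure_induction with
  | mem t ht =>
    refine Subgroup.subset_closure ?_
    have h := OneFix.conj_mem_invAt (g := g) ht
    rwa [hg] at h
  | one => simp
  | mul x y _ _ hx hy =>
    rw [show g * (x * y) * g⁻¹ = g * x * g⁻¹ * (g * y * g⁻¹) by group]
    exact mul_mem hx hy
  | inv x _ hx =>
    rw [show g * x⁻¹ * g⁻¹ = (g * x * g⁻¹)⁻¹ by group]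
    exact inv_mem hx

omit [Finite G] in
theorem invGp_normalizer (a : Ω) :
    stabilizer G a ≤ Subgroup.normalizer (invGp G a : Set G) := fun g hg =>
  Subgroup.mem_normalizer_iff.2 fun x => ⟨invGp_conj hg, fun hx => by
    have h := invGp_conj (g := g⁻¹) (inv_smul_eq_iff.2 (hg : g • a = a).symm) hx
    rwa [show g⁻¹ * (g * x * g⁻¹) * g⁻¹⁻¹ = x by group] at h⟩

omit [Finite G] in
theorem dL_conj {a b : Ω} {g x : G} (hg : g ∈ pairStab G a b) (hx : x ∈ dL G a b) :
    g * x * g⁻¹ ∈ dL G a b :=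
  ⟨invGp_conj hg.1 hx.1, (pairStab G a b).mul_mem ((pairStab G a b).mul_mem hg hx.2)
    ((pairStab G a b).inv_mem hg)⟩

omit [Finite G] in
theorem dL_normalizer (a b : Ω) :
    pairStab G a b ≤ Subgroup.normalizer (dL G a b : Set G) := fun g hg =>
  Subgroup.mem_normalizer_iff.2 fun x => ⟨dL_conj hg, fun hx => by
    have h := dL_conj (inv_mem hg) hx
    rwa [show g⁻¹ * (g * x * g⁻¹) * g⁻¹⁻¹ = x by group] at h⟩

/-- A normal subgroup of `G_a` that moves an involution at `a` is transitive on the other points. -/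
theorem normal_trans (h : Ctx G Ω) {a b : Ω} (hab : b ≠ a) {N : Subgroup G}
    (hN : N ≤ stabilizer G a) (hn : stabilizer G a ≤ Subgroup.normalizer (N : Set G))
    {s : G} (hs : s ∈ invAt G a) {x : G} (hx : x ∈ N) (hxs : x * s ≠ s * x) {y z : Ω}
    (hy : y ≠ a) (hz : z ≠ a) : ∃ g ∈ N, g • y = z := by
  set C := N ⊓ Subgroup.centralizer {s}
  have hidx : (C.subgroupOf N).index ≠ 1 := fun e => by
    rw [Subgroup.index_eq_one] at e
    have h1 : (⟨x, hx⟩ : N) ∈ C.subgroupOf N := by rw [e]; exact Subgroup.mem_top _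
    exact hxs (Subgroup.mem_centralizer_singleton_iff.1 h1.2)
  obtain ⟨p, hp, hpi⟩ := Nat.exists_prime_and_dvd hidx
  haveI := Fact.mk hp
  obtain ⟨P, hP, -⟩ := SylowIn.exists_ge (D := N) (IsPGroup.of_bot : IsPGroup p (⊥ : Subgroup G))
    bot_le
  have haP : a ∈ Fx P := hP.1.trans hN
  have hnone : ∀ r ∈ invAt G a, ¬ P ≤ Subgroup.centralizer {r} := by
    intro r hr hPr
    obtain ⟨d, hd, rfl⟩ := h.fix.pairStab_conj_invAt hab.symm hs hr
    have hP' := hP.map_conj d⁻¹
    rw [map_conj_of_mem (inv_mem (hn hd.1))] at hP'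
    have hle : P.map (MulAut.conj d⁻¹).toMonoidHom ≤ C := by
      refine le_inf hP'.1 ?_
      rintro _ ⟨k, hk, rfl⟩
      refine Subgroup.mem_centralizer_singleton_iff.2 ?_
      show d⁻¹ * k * d⁻¹⁻¹ * s = s * (d⁻¹ * k * d⁻¹⁻¹)
      have e := Subgroup.mem_centralizer_singleton_iff.1 (hPr hk)
      calc d⁻¹ * k * d⁻¹⁻¹ * s = d⁻¹ * (k * (d * s * d⁻¹)) * d := by group
        _ = d⁻¹ * (d * s * d⁻¹ * k) * d := by rw [e]
        _ = s * (d⁻¹ * k * d⁻¹⁻¹) := by group
    have h1 := Subgroup.card_dvd_of_le hle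
    rw [hP'.2] at h1
    have h2 := (C.subgroupOf N).index_mul_card
    rw [Nat.card_congr (Subgroup.subgroupOfEquivOfLe (inf_le_left : C ≤ N)).toEquiv] at h2
    have h3 : p ^ ((Nat.card N).factorization p + 1) ∣ Nat.card N := by
      rw [pow_succ']
      have h4 := mul_dvd_mul hpi h1
      rwa [h2] at h4
    exact Nat.not_succ_le_self _
      ((hp.pow_dvd_iff_le_factorization Nat.card_pos.ne').1 h3)
  have hempty : Nat.card (invCen P a) = 0 := by
    haveI : IsEmpty ↥(invCen P a) := ⟨fun r => hnone r.1 r.2.1 r.2.2⟩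
    exact Nat.card_of_isEmpty
  have hpm : p ∣ Nat.card (invAt G a) := Nat.modEq_zero_iff_dvd.1
    ((card_invCen_modEq hP.isPGroup haP).trans (hempty ▸ Nat.ModEq.refl _))
  obtain ⟨c, hc, hca⟩ : ∃ c : Ω, c ∈ Fx P ∧ c ≠ a := by
    obtain ⟨c, c', hcc, hc, hc', -⟩ := exists_fix_two h.fix h.propF hpm hP.isPGroup
    rcases eq_or_ne c a with rfl | e
    · exact ⟨c', hc', hcc.symm⟩
    · exact ⟨c, hc, e⟩
  have honly : ∀ e, e ∈ Fx P → e ≠ a → e = c := by
    intro e he hea
    by_contra hec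
    obtain ⟨r, hr⟩ := exists_cen h.fix h.propF hP.isPGroup
      ⟨a, c, e, hca.symm, hea, hec, haP, hc, he⟩ haP
    exact hnone r hr.1 hr.2
  have hm : 1 < Nat.card (invAt G a) := h.card_invAt a
  have horb : ∀ e, e ≠ a → ∃ g ∈ N, g • c = e := by
    intro e he
    obtain ⟨k, hka, hkc⟩ := two_transitive h.fix h.propF hm hca he
    have hP' := hP.map_conj k
    rw [map_conj_of_mem (hn hka)] at hP'
    obtain ⟨n, hnN, hn'⟩ := hP'.conj_eq hP
    have hnk : n * k ∈ Subgroup.normalizer (P : Set G) := by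
      rw [Subgroup.mem_normalizer_iff_map_conj_eq]
      refine Eq.trans ?_ hn'
      rw [Subgroup.map_map]
      congr 1
      ext x
      simp [mul_assoc]
    have hfix : (n * k) • c = c := by
      refine honly _ (smul_mem_Fx hnk hc) fun e' => hca ?_
      refine MulAction.injective (n * k) (e'.trans ?_)
      show a = (n * k) • a
      rw [mul_smul, hka, (hN hnN : n • a = a)]
    refine ⟨n⁻¹, inv_mem hnN, ?_⟩
    rw [inv_smul_eq_iff, ← hkc, ← mul_smul, hfix]
  obtain ⟨g, hg, hgy⟩ := horb y hy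
  obtain ⟨g', hg', hgz⟩ := horb z hz
  exact ⟨g' * g⁻¹, mul_mem hg' (inv_mem hg), by rw [mul_smul, inv_smul_eq_iff.2 hgy.symm, hgz]⟩

/-- `L` is transitive on the points other than `a`. -/
theorem invGp_trans (h : Ctx G Ω) {a b : Ω} (hab : b ≠ a) (hc : ¬ Comm G a) {y z : Ω} (hy : y ≠ a)
    (hz : z ≠ a) : ∃ g ∈ invGp G a, g • y = z := by
  unfold Comm at hc
  push Not at hc
  obtain ⟨s, hs, t, ht, hne⟩ := hc
  exact normal_trans h hab (invGp_le a) (invGp_normalizer a) ht (Subgroup.subset_closure hs) hne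
    hy hz

/-- A `2`-element at `a` lies in `L`. -/
theorem mem_invGp_of_two_pow (h : Ctx G Ω) {a b : Ω} (hab : b ≠ a) (hc : ¬ Comm G a) {o : G}
    (ho : o • a = a) {k : ℕ} (hk : o ^ 2 ^ k = 1) : o ∈ invGp G a := by
  have hob : o • b ≠ a := fun e => hab (MulAction.injective o (e.trans ho.symm))
  obtain ⟨g, hg, hgb⟩ := invGp_trans h hab hc hab hob
  set M : Subgroup (stabilizer G a) := (invGp G a).subgroupOf (stabilizer G a)
  haveI : M.Normal := ⟨fun x hx c => invGp_conj c.2 hx⟩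
  set o' : stabilizer G a := ⟨o, ho⟩
  set g' : stabilizer G a := ⟨g, invGp_le a hg⟩
  have hd : (g'⁻¹ * o' : stabilizer G a).1 ∈ pairStab G a b := ⟨(g'⁻¹ * o').2, by
    show (g⁻¹ * o) • b = b
    rw [mul_smul, ← hgb, inv_smul_smul]⟩
  set π := QuotientGroup.mk' M
  have h1 : π o' = π (g'⁻¹ * o') := by
    rw [map_mul, map_inv, show π g' = 1 from (QuotientGroup.eq_one_iff g').2 (show g' ∈ M from hg),
      inv_one, one_mul]
  have h2 : orderOf (π o') ∣ 2 ^ k := orderOf_dvd_of_pow_eq_one (by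
    rw [← map_pow, show o' ^ 2 ^ k = 1 from Subtype.ext hk, map_one])
  have h3 : Odd (orderOf (π o')) := by
    rw [h1]
    refine ((h.fix.odd_pairStab hab.symm).of_dvd_nat ?_).of_dvd_nat (orderOf_map_dvd π _)
    rw [← Subgroup.orderOf_coe]
    exact Subgroup.orderOf_dvd_natCard _ hd
  have h4 : orderOf (π o') = 1 :=
    Nat.Coprime.eq_one_of_dvd ((Nat.coprime_two_right.2 h3).pow_right k) h2
  exact (QuotientGroup.eq_one_iff o').1 (orderOf_eq_one_iff.1 h4)

/-- A larger group of prime power order fixing `a` and `b` is single. -/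
theorem IsSingle.of_le {a b : Ω} (hab : b ≠ a) (hG : OneFix G Ω) {q : ℕ} [Fact q.Prime]
    {X S : Subgroup G} (hX : IsSingle X a) (hS : IsPGroup q S) (hXS : X ≤ S)
    (hSD : S ≤ pairStab G a b) : IsSingle S a := by
  have ha : a ∈ Fx S := hSD.trans inf_le_left
  have hb : b ∈ Fx S := hSD.trans inf_le_right
  have hsub : invCen S a ⊆ invCen X a := fun r hr => ⟨hr.1, hXS.trans hr.2⟩
  have hle : Nat.card (invCen S a) ≤ 1 :=
    hX.2.2 ▸ Nat.card_mono (Set.toFinite _) hsub
  have hne : Nat.card (invCen S a) ≠ 0 := fun e => by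
    have h1 := (card_invCen_modEq (hS.to_le hXS) hX.2.1).symm.trans (card_invCen_modEq hS ha)
    rw [hX.2.2, e] at h1
    exact (Fact.out : q.Prime).not_dvd_one (Nat.modEq_zero_iff_dvd.1 h1)
  have hone : Nat.card (invCen S a) = 1 := le_antisymm hle (Nat.pos_of_ne_zero hne)
  haveI : Nonempty ↥(invCen S a) := (Nat.card_ne_zero.1 hne).1
  obtain ⟨t, ht⟩ := ‹Nonempty ↥(invCen S a)›
  refine ⟨⟨a, b, t • b, hab.symm, fun e => hab (MulAction.injective t (e.trans ht.1.2.symm)),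
    fun e => hab (hG.eq_of_fix ht.1.1 e ht.1.2), ha, hb,
    smul_mem_Fx (mem_normalizer_of_cen ht.2) hb⟩, ha, hone⟩

/-- A single subgroup of `D ∩ L` makes `D ∩ L` transitive on the involutions at `a`. -/
theorem transJ_of_single (h : Ctx G Ω) {a b : Ω} (hab : b ≠ a) {q : ℕ} [Fact q.Prime]
    {X : Subgroup G} (hXq : IsPGroup q X) (hXD : X ≤ dL G a b) (hX : IsSingle X a) :
    TransJ G a b := by
  obtain ⟨S, hS, hXS⟩ := SylowIn.exists_ge (D := dL G a b) hXq hXD
  obtain ⟨-, -, hone⟩ := hX.of_le hab h.fix hS.isPGroup hXS (hS.1.trans inf_le_right)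
  obtain ⟨hsub, ⟨t₀, ht₀⟩⟩ := Nat.card_eq_one_iff_unique.1 hone
  have key : ∀ s ∈ invAt G a, ∃ d ∈ dL G a b, d * t₀ * d⁻¹ = s := by
    intro s hs
    obtain ⟨d, hd, rfl⟩ := h.fix.pairStab_conj_invAt hab.symm ht₀.1 hs
    have hS' := hS.map_conj d
    rw [map_conj_of_mem (dL_normalizer a b hd)] at hS'
    obtain ⟨e, he, he'⟩ := hS.conj_eq hS'
    have hn : e⁻¹ * d ∈ Subgroup.normalizer (S : Set G) := by
      rw [Subgroup.mem_normalizer_iff_map_conj_eq]
      have h1 := congrArg (Subgroup.map (MulAut.conj e⁻¹).toMonoidHom) he'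
      rw [Subgroup.map_map, Subgroup.map_map] at h1
      refine Eq.trans ?_ (h1.symm.trans ?_)
      · congr 1
        ext x
        simp [mul_assoc]
      · convert Subgroup.map_id S
        ext x
        simp [mul_assoc]
    have hfix : (e⁻¹ * d) * t₀ * (e⁻¹ * d)⁻¹ = t₀ := by
      have hmem : (e⁻¹ * d) * t₀ * (e⁻¹ * d)⁻¹ ∈ invCen S a := by
        refine ⟨?_, cen_conj hn ht₀.2⟩
        have h1 := OneFix.conj_mem_invAt (g := e⁻¹ * d) ht₀.1
        rwa [show (e⁻¹ * d) • a = a from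
          (mul_mem (inv_mem he.2.1) hd.1 : e⁻¹ * d ∈ stabilizer G a)] at h1
      exact congrArg Subtype.val (hsub.elim ⟨_, hmem⟩ ⟨t₀, ht₀⟩)
    refine ⟨e, he, ?_⟩
    calc e * t₀ * e⁻¹ = e * (e⁻¹ * d * t₀ * (e⁻¹ * d)⁻¹) * e⁻¹ := by rw [hfix]
      _ = d * t₀ * d⁻¹ := by group
  intro s hs t ht
  obtain ⟨d, hd, rfl⟩ := key s hs
  obtain ⟨e, he, rfl⟩ := key t ht
  exact ⟨e * d⁻¹, mul_mem he (inv_mem hd), by group⟩

/-- The fixed points of a subgroup of `D ∩ L` that is not single. -/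
theorem fixed_data_invGp (h : Ctx G Ω) {a b : Ω} (hab : b ≠ a) (hc : ¬ Comm G a) {p : ℕ}
    [Fact p.Prime] {X : Subgroup G} (hX : IsPGroup p X) (hX1 : X ≠ ⊥) (hXD : X ≤ dL G a b)
    (hns : ¬ IsSingle X a) :
    (Nat.card {e : Ω // e ∈ Fx X ∧ e ≠ a}).Coprime (Nat.card (dL G a b)) ∧
      ∀ y, y ∈ Fx X → y ≠ a → ∃ g ∈ invGp G a, g ∈ Subgroup.centralizer (X : Set G) ∧ g • b = y := by
  have ha : a ∈ Fx X := hXD.trans (inf_le_right.trans inf_le_left)
  have hb : b ∈ Fx X := hXD.trans (inf_le_right.trans inf_le_right)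
  by_cases h3 : ∃ e, e ∈ Fx X ∧ e ≠ a ∧ e ≠ b
  swap
  · push Not at h3
    haveI : Subsingleton {e : Ω // e ∈ Fx X ∧ e ≠ a} :=
      ⟨fun e f => Subtype.ext ((h3 e.1 e.2.1 e.2.2).trans (h3 f.1 f.2.1 f.2.2).symm)⟩
    refine ⟨?_, fun y hy hya => ⟨1, one_mem _, one_mem _, (one_smul _ _).trans (h3 y hy hya).symm⟩⟩
    rw [Nat.card_of_subsingleton (⟨b, hb, hab⟩ : {e : Ω // e ∈ Fx X ∧ e ≠ a})]
    exact Nat.coprime_one_left _
  obtain ⟨e, he, hea, heb⟩ := h3
  have h3' : Three X Ω := ⟨a, b, e, hab.symm, hea, heb, ha, hb, he⟩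
  obtain ⟨s, hs⟩ := exists_cen h.fix h.propF hX h3' ha
  haveI : Nonempty ↥(invCen X a) := ⟨⟨s, hs⟩⟩
  have h1 : 1 < Nat.card (invCen X a) :=
    lt_of_le_of_ne Nat.card_pos fun e => hns ⟨h3', ha, e.symm⟩
  have hne : Subgroup.centralizer (X : Set G) ≠ ⊤ := fun htop => hX1 (eq_bot_iff.2
    fun k hk => by
      rw [← h.center, Subgroup.mem_center_iff]
      intro g
      exact (Subgroup.mem_centralizer_iff.1 (htop.ge (Subgroup.mem_top g)) k hk).symm)
  obtain ⟨j, hj⟩ := card_Fx_eq_two_pow h.fix h.propF hX h3' ha h1 h.below hne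
  refine ⟨?_, fun y hy hya => ?_⟩
  · rw [hj]
    exact (Nat.coprime_two_left.2 ((h.fix.odd_pairStab hab.symm).of_dvd_nat
      (Subgroup.card_dvd_of_le inf_le_right))).pow_left j
  · obtain ⟨o, ho, hoa, hob, k, hk⟩ := BenderOne83.Central.exists_two_element h.fix h.propF hX h3'
      ha hb hy hab hya h1 h.below hne
    exact ⟨o, mem_invGp_of_two_pow h hab hc hoa hk, ho, hob⟩

/-- The number of the other points is prime to the order of `D ∩ L` when that has nothing single. -/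
theorem coprime_invGp (h : Ctx G Ω) {a b : Ω} (hab : b ≠ a) (hc : ¬ Comm G a)
    (hns : ∀ (p : ℕ) (X : Subgroup G), p.Prime → IsPGroup p X → X ≤ dL G a b → ¬ IsSingle X a) :
    (Nat.card (others G a)).Coprime (Nat.card (dL G a b)) := by
  refine Nat.coprime_of_dvd fun q hq h1 h2 => ?_
  haveI := Fact.mk hq
  obtain ⟨T, hT, -⟩ := SylowIn.exists_ge (D := dL G a b)
    (IsPGroup.of_bot : IsPGroup q (⊥ : Subgroup G)) bot_le
  have hT1 : T ≠ ⊥ := by
    intro e
    have h := hT.2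
    rw [e, Subgroup.card_bot] at h
    exact (Nat.one_lt_pow (hq.factorization_pos_of_dvd Nat.card_pos.ne' h2).ne' hq.one_lt).ne h
  have haT : a ∈ Fx T := hT.1.trans (inf_le_right.trans inf_le_left)
  obtain ⟨hcop, -⟩ := fixed_data_invGp h hab hc hT.isPGroup hT1 hT.1
    (hns q T hq hT.isPGroup hT.1)
  set E := invGp G a ⊓ Subgroup.normalizer (T : Set G)
  obtain ⟨T₂, hT₂, hTT₂⟩ := SylowIn.exists_ge (D := E) hT.isPGroup
    (le_inf (hT.1.trans inf_le_left) Subgroup.le_normalizer)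
  letI : MulAction T₂ {e : Ω // e ∈ Fx T ∧ e ≠ a} :=
    { smul := fun g e => ⟨(g : G) • e.1, smul_mem_Fx (hT₂.1 g.2).2 e.2.1, fun h =>
        e.2.2 (MulAction.injective (g : G)
          (h.trans (invGp_le a (hT₂.1 g.2).1 : (g : G) • a = a).symm))⟩
      one_smul := fun e => Subtype.ext (one_smul G e.1)
      mul_smul := fun g h e => Subtype.ext (mul_smul (g : G) (h : G) e.1) }
  haveI : Finite Ω := by
    haveI := h.fix.trans
    exact Finite.of_surjective (fun g : G => g • a) (fun z => exists_smul_eq G a z)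
  obtain ⟨⟨y, hy, hya⟩, hfix⟩ : (fixedPoints T₂ {e : Ω // e ∈ Fx T ∧ e ≠ a}).Nonempty :=
    hT₂.isPGroup.nonempty_fixed_point_of_prime_not_dvd_card _ fun hd =>
      hq.not_dvd_one (hcop ▸ Nat.dvd_gcd hd h2)
  have hle : T₂ ≤ dL G a y := fun g hg =>
    ⟨(hT₂.1 hg).1, invGp_le a (hT₂.1 hg).1, congrArg Subtype.val (hfix ⟨g, hg⟩)⟩
  obtain ⟨g, hg, hgb⟩ := invGp_trans h hab hc hab hya
  have hga : g • a = a := invGp_le a hg
  have hcard : Nat.card (dL G a y) = Nat.card (dL G a b) := by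
    have : dL G a y = (dL G a b).map (MulAut.conj g).toMonoidHom := by
      rw [Subgroup.map_inf _ _ _ (MulAut.conj g).injective,
        Subgroup.map_inf _ _ _ (MulAut.conj g).injective,
        ← MulAction.stabilizer_smul_eq_stabilizer_map_conj,
        ← MulAction.stabilizer_smul_eq_stabilizer_map_conj,
        map_conj_of_mem (invGp_normalizer a hga), hga, hgb]
    rw [this, Subgroup.card_map_of_injective (MulAut.conj g).injective]
  have hTy : SylowIn q T (dL G a y) := hT.of_ge (hTT₂.trans hle) hcard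
  have hTE : SylowIn q T E := (hTy.eq_of_le hTT₂ hle hT₂.isPGroup) ▸ hT₂
  have hTH : SylowIn q T (invGp G a) :=
    SylowIn.of_normalizer (hT.1.trans inf_le_left) hTE le_rfl
  set M : Subgroup (stabilizer G a) := (invGp G a).subgroupOf (stabilizer G a)
  have hidx : Nat.card (others G a) * Nat.card (dL G a b) = Nat.card (invGp G a) := by
    haveI : IsPretransitive M (others G a) := ⟨fun e f => by
      obtain ⟨k, hk, hk'⟩ := invGp_trans h hab hc e.2 f.2
      exact ⟨⟨⟨k, invGp_le a hk⟩, hk⟩, Subtype.ext hk'⟩⟩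
    rw [← index_stabilizer_of_transitive M (⟨b, hab⟩ : others G a),
      show Nat.card (dL G a b) = Nat.card (stabilizer M (⟨b, hab⟩ : others G a)) from
        Nat.card_congr
          { toFun := fun d => ⟨⟨⟨d.1, invGp_le a d.2.1⟩, d.2.1⟩, Subtype.ext d.2.2.2⟩
            invFun := fun d => ⟨d.1.1.1, d.1.2, d.1.1.2, congrArg Subtype.val d.2⟩
            left_inv := fun d => rfl
            right_inv := fun d => rfl }, Subgroup.index_mul_card,
      Nat.card_congr (Subgroup.subgroupOfEquivOfLe (invGp_le a)).toEquiv]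
  have hfac := Nat.pow_right_injective hq.two_le (hT.2.symm.trans hTH.2)
  have hne : Nat.card (others G a) ≠ 0 := fun h0 => by
    rw [h0, zero_mul] at hidx
    exact Nat.card_pos.ne hidx
  rw [← hidx, Nat.factorization_mul hne Nat.card_pos.ne', Finsupp.add_apply] at hfac
  have hpos : 0 < (Nat.card (others G a)).factorization q :=
    hq.factorization_pos_of_dvd hne h1
  omega

/-- Without a single subgroup in `D ∩ L` the point stabiliser has a regular normal subgroup. -/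
theorem reg_of_no_single (h : Ctx G Ω) {a b : Ω} (hab : b ≠ a) (hc : ¬ Comm G a)
    (hns : ∀ (p : ℕ) (X : Subgroup G), p.Prime → IsPGroup p X → X ≤ dL G a b → ¬ IsSingle X a) :
    Reg G a := by
  set M : Subgroup (stabilizer G a) := (invGp G a).subgroupOf (stabilizer G a)
  set ι : M →* G := (stabilizer G a).subtype.comp M.subtype
  have hι : Function.Injective ι := (stabilizer G a).subtype_injective.comp M.subtype_injective
  let b' : others G a := ⟨b, hab⟩
  have hst : Nat.card (stabilizer M b') = Nat.card (dL G a b) := Nat.card_congr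
    { toFun := fun d => ⟨d.1.1.1, d.1.2, d.1.1.2, congrArg Subtype.val d.2⟩
      invFun := fun d => ⟨⟨⟨d.1, d.2.2.1⟩, d.2.1⟩, Subtype.ext d.2.2.2⟩
      left_inv := fun d => rfl
      right_inv := fun d => rfl }
  have hFT : FixTrans M b' := by
    intro p X hp hX hXb
    haveI := Fact.mk hp
    set X' := X.map ι
    have hX'D : X' ≤ dL G a b := by
      rintro _ ⟨k, hk, rfl⟩
      exact ⟨k.2, k.1.2, congrArg Subtype.val (hXb hk)⟩
    have hiff : ∀ y : others G a, X ≤ stabilizer M y ↔ (y : Ω) ∈ Fx X' := by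
      intro y
      constructor
      · rintro h _ ⟨k, hk, rfl⟩
        exact congrArg Subtype.val (h hk)
      · exact fun h k hk => Subtype.ext (h ⟨k, hk, rfl⟩)
    have hcard : Nat.card {y : others G a // X ≤ stabilizer M y} =
        Nat.card {e : Ω // e ∈ Fx X' ∧ e ≠ a} := Nat.card_congr
      { toFun := fun y => ⟨y.1.1, (hiff y.1).1 y.2, y.1.2⟩
        invFun := fun e => ⟨⟨e.1, e.2.2⟩, (hiff _).2 e.2.1⟩
        left_inv := fun y => rfl
        right_inv := fun e => rfl }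
    by_cases hX1 : X = ⊥
    · subst hX1
      refine ⟨?_, fun y _ => ?_⟩
      · rw [Nat.card_congr (Equiv.subtypeUnivEquiv fun y => bot_le), hst]
        exact coprime_invGp h hab hc hns
      · obtain ⟨g, hg, hgy⟩ := invGp_trans h hab hc hab y.2
        exact ⟨⟨⟨g, invGp_le a hg⟩, hg⟩, Subgroup.mem_centralizer_iff.2 fun k hk => by
          rw [Subgroup.mem_bot.1 hk, one_mul, mul_one], Subtype.ext hgy⟩
    obtain ⟨hcop, htr⟩ := fixed_data_invGp h hab hc (hX.map ι)
      (fun e => hX1 ((X.map_eq_bot_iff_of_injective hι).1 e)) hX'D (hns p X' hp (hX.map ι) hX'D)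
    refine ⟨by rw [hcard, hst]; exact hcop, fun y hy => ?_⟩
    obtain ⟨g, hg, hgc, hgy⟩ := htr y ((hiff y).1 hy) y.2
    exact ⟨⟨⟨g, invGp_le a hg⟩, hg⟩, Subgroup.mem_centralizer_iff.2 fun k hk =>
      hι (Subgroup.mem_centralizer_iff.1 hgc (ι k) ⟨k, hk, rfl⟩), Subtype.ext hgy⟩
  have hodd : Odd (Nat.card (stabilizer M b')) := by
    rw [hst]
    exact (h.fix.odd_pairStab hab.symm).of_dvd_nat (Subgroup.card_dvd_of_le inf_le_right)
  obtain ⟨R, hR, hRt⟩ := FixTrans.exists_regular _ rfl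
    (OddOrder.FeitThompson.isSolvable_of_odd_card hodd) hFT
  haveI := hFT.pretransitive
  refine ⟨R.map ι, ?_, ?_, ?_, ?_⟩
  · rintro _ ⟨r, -, rfl⟩
    exact r.1.2
  · rintro k hk _ ⟨r, hr, rfl⟩
    refine ⟨⟨⟨k, hk⟩ * r.1 * ⟨k, hk⟩⁻¹, invGp_conj hk r.2⟩, (hR _).2 ?_, rfl⟩
    rw [← orderOf_injective ι hι]
    show (orderOf (k * ι r * k⁻¹)).Coprime _
    rw [orderOf_conj_eq, orderOf_injective ι hι]
    exact (hR r).1 hr
  · rintro _ ⟨r, hr, rfl⟩ y hy hfix
    let y' : others G a := ⟨y, hy⟩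
    have hfix' : r • y' = y' := Subtype.ext hfix
    obtain ⟨g, hg⟩ := exists_smul_eq M y' b'
    have h1 : g * r * g⁻¹ ∈ stabilizer M b' := by
      show (g * r * g⁻¹) • b' = b'
      rw [mul_smul, mul_smul, inv_smul_eq_iff.2 hg.symm, hfix', hg]
    have h2 : orderOf (g * r * g⁻¹) = 1 := Nat.Coprime.eq_one_of_dvd
      (by rw [orderOf_conj_eq]; exact (hR r).1 hr) (Subgroup.orderOf_dvd_natCard _ h1)
    rw [orderOf_conj_eq, orderOf_eq_one_iff] at h2
    rw [h2, map_one]
  · intro y z hy hz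
    let y₁ : others G a := ⟨y, hy⟩
    let y₂ : others G a := ⟨z, hz⟩
    obtain ⟨r₁, hr₁, hr₁'⟩ := hRt y₁
    obtain ⟨r₂, hr₂, hr₂'⟩ := hRt y₂
    refine ⟨_, ⟨r₂ * r₁⁻¹, mul_mem hr₂ (inv_mem hr₁), rfl⟩, ?_⟩
    have h3 : (r₂ * r₁⁻¹) • y₁ = y₂ := by rw [mul_smul, inv_smul_eq_iff.2 hr₁'.symm, hr₂']
    exact congrArg Subtype.val h3

/-- Case III: a regular normal subgroup, or `D ∩ L` is transitive on the involutions at `a` and
contains a single subgroup. -/
theorem reg_or_transJ (h : Ctx G Ω) {a b : Ω} (hab : b ≠ a) (hc : ¬ Comm G a) :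
    Reg G a ∨ TransJ G a b ∧
      ∃ (p : ℕ) (X : Subgroup G), p.Prime ∧ IsPGroup p X ∧ X ≤ dL G a b ∧ IsSingle X a := by
  by_cases hs : ∃ (p : ℕ) (X : Subgroup G),
      p.Prime ∧ IsPGroup p X ∧ X ≤ dL G a b ∧ IsSingle X a
  · obtain ⟨p, X, hp, hX, hXD, hXs⟩ := hs
    haveI := Fact.mk hp
    exact Or.inr ⟨transJ_of_single h hab hX hXD hXs, p, X, hp, hX, hXD, hXs⟩
  · push Not at hs
    exact Or.inl (reg_of_no_single h hab hc hs)

end Cfsg.Agent.Lib.BenderOne8.Single
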