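import Mathlib
import Cfsg.Agent.Lib.BenderOne8.Single.TransJ

/-!
# Bender's theorem, part one, node C2: transfer from `L` to `D ∩ L`

`L` is generated by involutions, so a homomorphism of `D ∩ L` into an abelian group of odd order
transfers to the trivial one.
-/

set_option autoImplicit false
set_option linter.style.haveILetI false
set_option linter.unusedSectionVars false

namespace Cfsg.Agent.Lib.BenderOne8.Single

open MulAction Cfsg.Agent.Lib.Involutions.Basic
open Cfsg.Agent.Lib.BenderOne20

universe u v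

variable {G Ω : Type u} [Group G] [MulAction G Ω] [Finite G]

/-- The index of `D ∩ L` in `L` is the number of the other points. -/
theorem index_dL (h : Ctx G Ω) {a b : Ω} (hab : b ≠ a) (hc : ¬ Comm G a) :
    ((dL G a b).subgroupOf (invGp G a)).index = Nat.card (others G a) := by
  set M : Subgroup (stabilizer G a) := (invGp G a).subgroupOf (stabilizer G a)
  haveI : IsPretransitive M (others G a) := ⟨fun e f => by
    obtain ⟨k, hk, hk'⟩ := invGp_trans h hab hc e.2 f.2
    exact ⟨⟨⟨k, invGp_le a hk⟩, hk⟩, Subtype.ext hk'⟩⟩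
  have h1 := (stabilizer M (⟨b, hab⟩ : others G a)).index_mul_card
  rw [index_stabilizer_of_transitive M (⟨b, hab⟩ : others G a),
    Nat.card_congr (Subgroup.subgroupOfEquivOfLe (invGp_le a)).toEquiv,
    show Nat.card (stabilizer M (⟨b, hab⟩ : others G a)) = Nat.card (dL G a b) from
      Nat.card_congr
        { toFun := fun d => ⟨d.1.1.1, d.1.2, d.1.1.2, congrArg Subtype.val d.2⟩
          invFun := fun d => ⟨⟨⟨d.1, invGp_le a d.2.1⟩, d.2.1⟩, Subtype.ext d.2.2.2⟩
          left_inv := fun d => rfl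
          right_inv := fun d => rfl }] at h1
  have h2 := ((dL G a b).subgroupOf (invGp G a)).index_mul_card
  rw [Nat.card_congr (Subgroup.subgroupOfEquivOfLe (inf_le_left : dL G a b ≤ invGp G a)).toEquiv,
    ← h1] at h2
  exact Nat.eq_of_mul_eq_mul_right Nat.card_pos h2

/-- If every power of `y` fixing another point is brought back to `b` by an element of `L`
centralising it, then `φ y` to the number of the other points is trivial. -/
theorem pow_others_eq_one (h : Ctx G Ω) {a b : Ω} (hab : b ≠ a) (hc : ¬ Comm G a) {A : Type v}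
    [CommGroup A] [Finite A] (hA : Odd (Nat.card A)) (φ : dL G a b →* A) (y : dL G a b)
    (hst : ∀ (k : ℕ) (e : Ω), e ≠ a → (y : G) ^ k • e = e →
      ∃ g ∈ invGp G a, g • e = b ∧ g * (y : G) ^ k = (y : G) ^ k * g) :
    φ y ^ Nat.card (others G a) = 1 := by
  classical
  set L := invGp G a
  set H := (dL G a b).subgroupOf L
  set e₀ : H ≃* dL G a b := Subgroup.subgroupOfEquivOfLe inf_le_left
  set ψ : H →* A := φ.comp e₀.toMonoidHom
  set V := MonoidHom.transfer ψ
  -- the transfer is trivial
  have hV : ∀ x : L, V x = 1 := by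
    rintro ⟨x, hx⟩
    induction hx using Subgroup.closure_induction with
    | mem t ht =>
      have h2 : orderOf (V ⟨t, Subgroup.subset_closure ht⟩) ∣ 2 := orderOf_dvd_of_pow_eq_one (by
        rw [← map_pow, show (⟨t, Subgroup.subset_closure ht⟩ : L) ^ 2 = 1 from
          Subtype.ext (by rw [SubmonoidClass.coe_pow]; exact (pow_two t).trans (invol_mul_self ht.1)),
          map_one])
      have h3 : orderOf (V ⟨t, Subgroup.subset_closure ht⟩) = 1 := Nat.Coprime.eq_one_of_dvd
        (Nat.coprime_two_right.2 (hA.of_dvd_nat (orderOf_dvd_natCard _))) h2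
      exact orderOf_eq_one_iff.1 h3
    | one => exact map_one V
    | mul x z hx hz ihx ihz =>
      rw [show (⟨x * z, mul_mem hx hz⟩ : L) = ⟨x, hx⟩ * ⟨z, hz⟩ from rfl, map_mul, ihx, ihz, one_mul]
    | inv x hx ihx =>
      rw [show (⟨x⁻¹, inv_mem hx⟩ : L) = ⟨x, hx⟩⁻¹ from rfl, map_inv, ihx, inv_one]
  set y' : L := ⟨y, y.2.1⟩
  letI := Fintype.ofFinite (Quotient (orbitRel (Subgroup.zpowers y') (L ⧸ H)))
  letI := H.fintypeQuotientOfFiniteIndex
  have key : V y' = φ y ^ H.index := by
    rw [Subgroup.index_eq_sum_minimalPeriod H y', ← Finset.prod_pow_eq_pow_sum]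
    refine (MonoidHom.transfer_eq_prod_quotient_orbitRel_zpowers_quot ψ y').trans ?_
    refine Finset.prod_congr rfl fun q _ => ?_
    set k := Function.minimalPeriod (y' • ·) q.out
    set c : L := q.out.out
    set z : H := ⟨c⁻¹ * y' ^ k * c, QuotientGroup.out_conj_pow_minimalPeriod_mem H y' q.out⟩
    show φ (e₀ z) = φ y ^ k
    have hz : (c : G)⁻¹ * (y : G) ^ k * (c : G) ∈ dL G a b := z.2
    have hne : (c : G) • b ≠ a := fun e =>
      hab (MulAction.injective (c : G) (e.trans (invGp_le a c.2 : (c : G) • a = a).symm))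
    have hfix : (y : G) ^ k • (c : G) • b = (c : G) • b := by
      have h1 : ((c : G)⁻¹ * (y : G) ^ k * (c : G)) • b = b := hz.2.2
      rwa [mul_smul, mul_smul, inv_smul_eq_iff] at h1
    obtain ⟨g, hg, hgb, hgy⟩ := hst k _ hne hfix
    have hd : g * (c : G) ∈ dL G a b := ⟨mul_mem hg c.2,
      invGp_le a (mul_mem hg c.2), by show (g * (c : G)) • b = b; rw [mul_smul, hgb]⟩
    have he : y ^ k = ⟨_, hd⟩ * e₀ z * (⟨_, hd⟩ : dL G a b)⁻¹ := by
      refine Subtype.ext ?_
      show (y : G) ^ k = g * (c : G) * ((c : G)⁻¹ * (y : G) ^ k * (c : G)) * (g * (c : G))⁻¹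
      rw [show g * (c : G) * ((c : G)⁻¹ * (y : G) ^ k * (c : G)) * (g * (c : G))⁻¹ =
        g * (y : G) ^ k * g⁻¹ by group, hgy, mul_inv_cancel_right]
    rw [← map_pow, he, map_mul, map_mul, map_inv, mul_inv_cancel_comm]
  rw [index_dL h hab hc, hV] at key
  exact key.symm

end Cfsg.Agent.Lib.BenderOne8.Single
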