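import Mathlib
import Cfsg.Agent.Lib.BenderOne8.Single.TransJ

/-!
# Bender's theorem, part one, node C2: the `2`-elements centralising a good subgroup

For a good `X` the `2`-elements of `C(X)` at `a` form a subgroup `Q(X)`, regular on the other fixed
points of `X` (`notes/bender_nodeC2_short_helper36.md`, A1, A2); it passes to the subgroups of
prime power order containing `X`.
-/

set_option autoImplicit false
set_option linter.style.haveILetI false
set_option linter.unusedSectionVars false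

namespace Cfsg.Agent.Lib.BenderOne8.Single

open MulAction Cfsg.Agent.Lib.Involutions.Basic
open Cfsg.Agent.Lib.BenderOne20

universe u

/-- In a transitive action of degree `2^j` with stabilisers of odd order the `2`-elements move a
point to every other one. -/
theorem exists_two_elt {A Λ : Type*} [Group A] [Finite A] [MulAction A Λ] [IsPretransitive A Λ]
    {b : Λ} {j : ℕ} (hcard : Nat.card Λ = 2 ^ j) (hstab : Odd (Nat.card (stabilizer A b)))
    (y : Λ) : ∃ z : A, (∃ i, z ^ 2 ^ i = 1) ∧ z • b = y := by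
  haveI : Fact (Nat.Prime 2) := ⟨Nat.prime_two⟩
  haveI : Finite Λ := Nat.finite_of_card_ne_zero (by rw [hcard]; positivity)
  set S : Sylow 2 A := default
  have hA : Nat.card A = 2 ^ j * Nat.card (stabilizer A b) := by
    rw [← hcard, ← index_stabilizer_of_transitive A b, Subgroup.index_mul_card]
  have hS : Nat.card S = 2 ^ j := by
    rw [S.card_eq_multiplicity, hA, Nat.factorization_mul (pow_ne_zero _ two_ne_zero)
      Nat.card_pos.ne', Nat.Prime.factorization_pow Nat.prime_two, Finsupp.add_apply,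
      Finsupp.single_eq_same, Nat.factorization_eq_zero_of_not_dvd
        (fun h => Nat.not_even_iff_odd.2 hstab (even_iff_two_dvd.2 h)), add_zero]
  have hinj : Function.Injective fun z : S => (z : A) • b := by
    intro z w h
    have hmem : (w : A)⁻¹ * z ∈ stabilizer A b := by
      show ((w : A)⁻¹ * z) • b = b
      rw [mul_smul, inv_smul_eq_iff]
      exact h
    obtain ⟨i, hi⟩ := IsPGroup.iff_orderOf.1 S.2 (w⁻¹ * z)
    have h1 : orderOf ((w : A)⁻¹ * z) = 2 ^ i := (Subgroup.orderOf_coe (w⁻¹ * z)).trans hi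
    have h2 : orderOf ((w : A)⁻¹ * z) = 1 := Nat.Coprime.eq_one_of_dvd
      (Nat.Coprime.pow_right i (Nat.coprime_two_right.2
        (hstab.of_dvd_nat (Subgroup.orderOf_dvd_natCard _ hmem)))) h1.dvd
    exact Subtype.ext (inv_mul_eq_one.1 (orderOf_eq_one_iff.1 h2)).symm
  obtain ⟨z, hz⟩ := (hinj.bijective_of_nat_card_le (by rw [hcard]; exact hS.ge)).2 y
  obtain ⟨i, hi⟩ := S.2 z
  exact ⟨z, ⟨i, congrArg Subtype.val hi⟩, hz⟩

/-- The preimage of the regular normal subgroup of the stabiliser in the image of a local group. -/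
theorem image_regular {A Λ : Type u} [Group A] [Finite A] [MulAction A Λ] (hA : OneFix A Λ) {N : ℕ}
    (hlt : Nat.card A < N) (hbelow : BenderOne.Below.{u} N) {a b : Λ} (hba : b ≠ a)
    (hfour : ∃ s ∈ invAt A a, ∃ t ∈ invAt A a, s ≠ t ∧ s * t = t * s) :
    ∃ Q : Subgroup A, (∀ x : A, x • a = a → (∃ k, x ^ 2 ^ k = 1) → x ∈ Q) ∧
      ∀ q ∈ Q, q • b = b → ∀ e : Λ, q • e = e := by
  haveI := hA.trans
  haveI : Finite Λ := Finite.of_surjective (fun g : A => g • a) (fun z => exists_smul_eq A a z)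
  set φ := MulAction.toPermHom A Λ
  set π := φ.rangeRestrict
  have hπ : ∀ (x : A) (e : Λ), π x • e = x • e := fun x e => rfl
  have hker : ∀ {x : A}, φ x = 1 → Odd (orderOf x) := fun {x} hx =>
    (hA.odd_pairStab hba.symm).of_dvd_nat (Subgroup.orderOf_dvd_natCard _
      ⟨Equiv.congr_fun hx a, Equiv.congr_fun hx b⟩)
  have hnker : ∀ {x : A}, orderOf x = 2 → φ x ≠ 1 := fun {x} hx h => by
    have := hker h
    rw [hx] at this
    exact absurd this (by decide)
  have hinv : ∀ {x : A}, orderOf x = 2 → orderOf (π x) = 2 := fun {x} hx => by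
    refine orderOf_eq_prime ?_ fun h => hnker hx (congrArg Subtype.val h)
    rw [← map_pow, ← hx, pow_orderOf_eq_one, map_one]
  have hlift : ∀ {v : φ.range}, orderOf v = 2 → ∃ x : A, orderOf x = 2 ∧ π x = v := by
    intro v hv
    obtain ⟨x, rfl⟩ := φ.rangeRestrict_surjective v
    have h2 : φ (x ^ 2) = 1 := by
      have h := pow_orderOf_eq_one (φ.rangeRestrict x)
      rw [hv] at h
      simpa using congrArg Subtype.val h
    obtain ⟨k, hk⟩ := hker h2
    have himg : π (x ^ orderOf (x ^ 2)) = π x := by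
      rw [hk, pow_succ, pow_mul, map_mul, map_pow, show π (x ^ 2) = 1 from Subtype.ext h2, one_pow,
        one_mul]
    refine ⟨x ^ orderOf (x ^ 2), orderOf_eq_prime ?_ fun h => ?_, himg⟩
    · rw [← pow_mul, mul_comm, pow_mul, pow_orderOf_eq_one]
    · rw [h, map_one] at himg
      rw [← himg, orderOf_one] at hv
      exact absurd hv (by decide)
  have hR : OneFix φ.range Λ :=
    { one := fun v hv => by
        obtain ⟨x, hx, rfl⟩ := hlift hv
        exact hA.one x hx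
      trans := ⟨fun e f => (exists_smul_eq A e f).imp' π fun _ h => h⟩
      invol := hA.invol.imp' π fun _ h => hinv h
      nontrivial := hA.nontrivial }
  set K := stabilizer φ.range a
  have hfour' : HasFour K := by
    obtain ⟨s, hs, t, ht, hne, hst⟩ := hfour
    refine ⟨π s, hs.2, π t, ht.2, hinv hs.1, hinv ht.1, fun h => hnker (x := s * t) ?_ ?_, ?_⟩
    · rw [invol_iff]
      refine ⟨?_, fun e => hne ?_⟩
      · calc s * t * (s * t) = s * (t * s) * t := by group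
          _ = (s * s) * (t * t) := by rw [← hst]; group
          _ = 1 := by rw [invol_mul_self hs.1, invol_mul_self ht.1, one_mul]
      · rw [eq_inv_of_mul_eq_one_left e, invol_inv ht.1]
    · have h' : φ s = φ t := congrArg Subtype.val h
      rw [map_mul, h', ← map_mul, invol_mul_self ht.1, map_one]
    · rw [← map_mul, ← map_mul, hst]
  have hcore : K.normalCore = ⊥ := by
    refine eq_bot_iff.2 fun x hx => Subgroup.mem_bot.2
      (FaithfulSMul.eq_of_smul_eq_smul (α := Λ) fun e => ?_)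
    obtain ⟨g, rfl⟩ := exists_smul_eq A a e
    have h : (π g⁻¹ * x * (π g⁻¹)⁻¹) • a = a := hx (π g⁻¹)
    rw [map_inv, inv_inv, mul_smul, mul_smul, inv_smul_eq_iff] at h
    rw [one_smul]
    exact h
  obtain ⟨Q, hQ, hRg⟩ := hbelow φ.range K
    (lt_of_le_of_lt (Nat.card_le_card_of_surjective _ φ.rangeRestrict_surjective) hlt)
    (stronglyEmbedded_of_oneFix hR a) hfour' hcore
  obtain ⟨g₀, hg₀⟩ := exists_smul_eq A a b
  have hgK : π g₀ ∉ K := fun h => hba (hg₀.symm.trans h)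
  haveI : (Q.subgroupOf K).Normal := ⟨fun q hq h => hRg.conj_mem h h.2 q hq⟩
  refine ⟨Q.comap π, fun x hxa hx => ?_, fun q hq hqb e => ?_⟩
  · obtain ⟨k, hk⟩ := hx
    have hqg : π x * π g₀ ∉ K := fun h =>
      hgK ((Subgroup.mul_mem_cancel_left K (show π x ∈ K from hxa)).1 h)
    obtain ⟨r, hr, hr'⟩ := hRg.trans (π g₀) (π x * π g₀) hgK hqg
    have hfix : (r⁻¹ * π x) • b = b := by
      have h : ((π x * π g₀)⁻¹ * (r * π g₀)) • a = a := hr'
      rw [mul_smul, inv_smul_eq_iff, mul_smul, mul_smul, hπ g₀ a, hg₀] at h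
      rw [mul_smul, inv_smul_eq_iff, h]
    have hmem : r⁻¹ * π x ∈ pairStab φ.range a b :=
      ⟨K.mul_mem (K.inv_mem (hRg.le hr)) (show π x ∈ K from hxa), hfix⟩
    have hodd : Odd (orderOf (r⁻¹ * π x)) :=
      (hR.odd_pairStab hba.symm).of_dvd_nat (Subgroup.orderOf_dvd_natCard _ hmem)
    set ρ := QuotientGroup.mk' (Q.subgroupOf K)
    set q' : K := ⟨π x, hxa⟩
    set d' : K := ⟨r⁻¹ * π x, hmem.1⟩
    have he : ρ d' = ρ q' := by
      refine QuotientGroup.eq.2 ?_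
      show (r⁻¹ * π x)⁻¹ * π x ∈ Q
      have h2 := hRg.conj_mem (π x)⁻¹ (inv_mem (show π x ∈ K from hxa)) r hr
      simpa [mul_assoc] using h2
    have h1 : orderOf (ρ q') ∣ 2 ^ k := orderOf_dvd_of_pow_eq_one (by
      rw [← map_pow, show q' ^ 2 ^ k = 1 from Subtype.ext (by
        rw [SubmonoidClass.coe_pow]
        show π x ^ 2 ^ k = 1
        rw [← map_pow, hk, map_one]), map_one])
    have h2 : orderOf (ρ q') ∣ orderOf (r⁻¹ * π x) :=
      he ▸ (orderOf_map_dvd ρ d').trans (dvd_of_eq (Subgroup.orderOf_mk _ _))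
    have h3 : ρ q' = 1 := orderOf_eq_one_iff.1 (Nat.Coprime.eq_one_of_dvd
      (Nat.Coprime.pow_right k (Nat.coprime_two_right.2 (hodd.of_dvd_nat h2))) h1)
    exact (QuotientGroup.eq_one_iff q').1 h3
  · have h1 : π q = 1 := hRg.free (π g₀) hgK (π q) hq (by
      show ((π g₀)⁻¹ * (π q * π g₀)) • a = a
      rw [mul_smul, mul_smul, hπ g₀ a, hg₀, hπ q b, hqb, inv_smul_eq_iff, hπ g₀ a, hg₀])
    rw [← hπ q e, h1, one_smul]

/-- The `2`-elements at `a` centralising `U` form a subgroup transitive on the other fixed points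
of `U`. -/
def HasQ {G Ω : Type*} [Group G] [MulAction G Ω] (U : Subgroup G) (a : Ω) : Prop :=
  ∃ Q : Subgroup G, Q ≤ stabilizer G a ⊓ Subgroup.centralizer (U : Set G) ∧
    (∀ x : G, x • a = a → x ∈ Subgroup.centralizer (U : Set G) → (∃ k, x ^ 2 ^ k = 1) → x ∈ Q) ∧
    (∀ x ∈ Q, ∃ k, x ^ 2 ^ k = 1) ∧
    ∀ y z, y ∈ Fx U → y ≠ a → z ∈ Fx U → z ≠ a → ∃ q ∈ Q, q • y = z

variable {G Ω : Type u} [Group G] [MulAction G Ω] [Finite G]

omit [Finite G] in
theorem eq_one_of_two {d : G} (hd : Odd (orderOf d)) {k : ℕ} (h : d ^ 2 ^ k = 1) : d = 1 :=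
  orderOf_eq_one_iff.1 (Nat.Coprime.eq_one_of_dvd
    ((Nat.coprime_two_right.2 hd).pow_right k) (orderOf_dvd_of_pow_eq_one h))

theorem eq_one_of_fix (hG : OneFix G Ω) {a y : Ω} (hy : y ≠ a) {x : G} (hxa : x • a = a)
    (hxy : x • y = y) (h : ∃ k, x ^ 2 ^ k = 1) : x = 1 :=
  eq_one_of_two ((hG.odd_pairStab hy.symm).of_dvd_nat (Subgroup.orderOf_dvd_natCard _ ⟨hxa, hxy⟩))
    h.choose_spec

/-- Only two fixed points: `Q` is trivial. -/
theorem hasQ_two (hG : OneFix G Ω) {U : Subgroup G} {a b : Ω} (hba : b ≠ a) (hb : b ∈ Fx U)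
    (h : ∀ e, e ∈ Fx U → e ≠ a → e = b) : HasQ U a := by
  refine ⟨⊥, bot_le, fun x hxa hx h2 => ?_, fun x hx => ⟨0, ?_⟩, fun y z hy hya hz hza => ?_⟩
  · refine Subgroup.mem_bot.2 (eq_one_of_fix hG hba hxa (h _ ?_ fun e => hba ?_) h2)
    · exact smul_mem_Fx (Subgroup.centralizer_le_normalizer _ hx) hb
    · exact MulAction.injective x (e.trans hxa.symm)
  · rw [Subgroup.mem_bot.1 hx, one_pow]
  · exact ⟨1, one_mem _, by rw [one_smul, h y hy hya, h z hz hza]⟩

/-- Two-element lemma: a good subgroup has `Q`. -/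
theorem hasQ_good (h : Ctx G Ω) {p : ℕ} [Fact p.Prime] {X : Subgroup G} (hX : IsPGroup p X)
    (hX1 : X ≠ ⊥) (h3 : Three X Ω) {a : Ω} (ha : a ∈ Fx X) (hm : 1 < Nat.card (invCen X a)) :
    HasQ X a := by
  set Lc := Subgroup.centralizer (X : Set G)
  have hne : Lc ≠ ⊤ := fun htop => hX1 (eq_bot_iff.2 fun k hk => by
    rw [← h.center, Subgroup.mem_center_iff]
    intro g
    exact (Subgroup.mem_centralizer_iff.1 (htop.ge (Subgroup.mem_top g)) k hk).symm)
  obtain ⟨j, hj⟩ := card_Fx_eq_two_pow h.fix h.propF hX h3 ha hm h.below hne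
  obtain ⟨b, hb, hba⟩ : ∃ b, b ∈ Fx X ∧ b ≠ a := by
    obtain ⟨x, y, -, hxy, -, -, hx, hy, -⟩ := id h3
    rcases eq_or_ne x a with rfl | e
    · exact ⟨y, hy, hxy.symm⟩
    · exact ⟨x, hx, e⟩
  -- the kernel on the fixed points
  set N₀ := Lc ⊓ fixingSubgroup G (Fx X : Set Ω)
  have hN₀ : ∀ {n : G}, n ∈ N₀ → ∀ {e : Ω}, e ∈ Fx X → n • e = e := fun {_} hn {_} he =>
    (mem_fixingSubgroup_iff G).1 hn.2 _ he
  have hN₀n : Lc ≤ Subgroup.normalizer (N₀ : Set G) := fun g hg => by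
    have key : ∀ {g : G}, g ∈ Lc → ∀ {n : G}, n ∈ N₀ → g * n * g⁻¹ ∈ N₀ := fun {g} hg {n} hn => by
      refine ⟨Lc.mul_mem (Lc.mul_mem hg hn.1) (Lc.inv_mem hg),
        (mem_fixingSubgroup_iff G).2 fun e he => ?_⟩
      rw [mul_smul, mul_smul,
        hN₀ hn (smul_mem_Fx (Subgroup.centralizer_le_normalizer _ (Lc.inv_mem hg)) he),
        smul_inv_smul]
    refine Subgroup.mem_normalizer_iff.2 fun n => ⟨key hg, fun hn => ?_⟩
    have := key (Lc.inv_mem hg) hn
    rwa [show g⁻¹ * (g * n * g⁻¹) * g⁻¹⁻¹ = n by group] at this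
  set M : Subgroup Lc := (Subgroup.centralizer (N₀ : Set G)).subgroupOf Lc
  have hinvol : ∀ w : Lc, orderOf w = 2 → w ∈ M := by
    intro w hw
    have hw' : orderOf (w : G) = 2 := (Subgroup.orderOf_coe w).trans hw
    obtain ⟨c, hc⟩ := h.fix.exists_fix hw'
    have hcX : c ∈ Fx X := mem_Fx_of_cen h.fix ⟨hw', hc⟩ (le_cen w.2)
    obtain ⟨d, hd, hdc⟩ : ∃ d, d ∈ Fx X ∧ d ≠ c := by
      rcases eq_or_ne a c with rfl | e
      · exact ⟨b, hb, hba⟩
      · exact ⟨a, ha, e⟩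
    refine Subgroup.mem_subgroupOf.2 (Subgroup.mem_centralizer_iff.2 fun n hn => ?_)
    exact Subgroup.mem_centralizer_singleton_iff.1 (cent_of_fix h.fix h.propF
      (x := c) (y := d) (fun n hn => hN₀ hn hcX) (fun n hn => hN₀ hn hd) hdc.symm ⟨hw', hc⟩
      (hN₀n w.2) hn)
  have hL : OneFix Lc ↥(fxAct X Ω) := local_oneFix h.fix h.propF hX h3
  haveI := hL.trans
  haveI := hL.nontrivial
  have hM : OneFix M ↥(fxAct X Ω) :=
    { one := fun t ht => hL.one t ((Subgroup.orderOf_coe t).trans ht)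
      trans := ⟨fun e f => by
        by_cases hef : e = f
        · exact ⟨1, by rw [hef, one_smul]⟩
        · obtain ⟨w, hw⟩ := hL.swapSet_nonempty hef
          exact ⟨⟨w, hinvol w hw.1⟩, hw.2⟩⟩
      invol := by
        obtain ⟨t, ht⟩ := hL.invol
        exact ⟨⟨t, hinvol t ht⟩, (Subgroup.orderOf_coe _).symm.trans ht⟩
      nontrivial := hL.nontrivial }
  have hMF : PropF M ↥(fxAct X Ω) := by
    intro v x y c hxy hv hc k hk
    have h1 := local_propF h.propF (X := X) (v : Lc) x y c hxy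
      ⟨(Subgroup.orderOf_coe v).trans hv.1, hv.2⟩ hc
      (show (k : Lc) ∈ pairStab Lc x y ⊓ stabilizer Lc c from ⟨⟨hk.1.1, hk.1.2⟩, hk.2⟩)
    rw [Subgroup.mem_centralizer_singleton_iff] at h1 ⊢
    exact Subtype.ext h1
  set a' : ↥(fxAct X Ω) := ⟨a, ha⟩
  set b' : ↥(fxAct X Ω) := ⟨b, hb⟩
  have hba' : b' ≠ a' := fun e => hba (congrArg Subtype.val e)
  have hmM : 1 < Nat.card (invAt M a') := by
    rw [show Nat.card (invAt M a') = Nat.card (invAt Lc a') from Nat.card_congr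
      { toFun := fun t => ⟨t.1.1, (Subgroup.orderOf_coe t.1).trans t.2.1, t.2.2⟩
        invFun := fun t => ⟨⟨t.1, hinvol t.1 t.2.1⟩, (Subgroup.orderOf_coe _).symm.trans t.2.1,
          t.2.2⟩
        left_inv := fun t => rfl
        right_inv := fun t => rfl }, card_invAt_local]
    exact hm
  -- two-elements centralising the kernel
  haveI : IsPretransitive (stabilizer M a') (others M a') := ⟨fun e f => by
    obtain ⟨g, hga, hgef⟩ := two_transitive hM hMF hmM e.2 f.2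
    exact ⟨⟨g, hga⟩, Subtype.ext hgef⟩⟩
  have hothers : Nat.card (others M a') = 2 ^ j := hj ▸ Nat.card_congr
    { toFun := fun e => ⟨e.1.1, e.1.2, fun h => e.2 (Subtype.ext h)⟩
      invFun := fun e => ⟨⟨e.1, e.2.1⟩, fun h => e.2.2 (congrArg Subtype.val h)⟩
      left_inv := fun e => rfl
      right_inv := fun e => rfl }
  have hoddM : Odd (Nat.card (stabilizer (stabilizer M a') (⟨b', hba'⟩ : others M a'))) :=
    (h.fix.odd_pairStab hba.symm).of_dvd_nat (Subgroup.card_dvd_of_injective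
      ((Lc.subtype.comp (M.subtype.comp ((stabilizer M a').subtype.comp
        (stabilizer (stabilizer M a') (⟨b', hba'⟩ : others M a')).subtype))).codRestrict
        (pairStab G a b) fun d => ⟨congrArg Subtype.val d.1.2,
          congrArg (fun e : others M a' => (e.1 : Ω)) d.2⟩)
      fun x z hxz => Subtype.ext (Subtype.ext (Subtype.ext (Subtype.ext
        (congrArg (fun w : pairStab G a b => (w : G)) hxz :)))))
  have hmove : ∀ y, y ∈ Fx X → y ≠ a → ∃ o ∈ Lc, o ∈ Subgroup.centralizer (N₀ : Set G) ∧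
      o • a = a ∧ o • b = y ∧ ∃ k, o ^ 2 ^ k = 1 := by
    intro y hy hya
    obtain ⟨z, ⟨i, hi⟩, hz⟩ := exists_two_elt hothers hoddM
      (⟨⟨y, hy⟩, fun e => hya (congrArg Subtype.val e)⟩ : others M a')
    exact ⟨((z : M) : Lc), ((z : M) : Lc).2, (z : M).2, congrArg Subtype.val z.2,
      congrArg (fun e : others M a' => (e.1 : Ω)) hz, i,
      congrArg (fun w : stabilizer M a' => (((w : M) : Lc) : G)) hi⟩
  -- the regular subgroup of the image
  obtain ⟨Q', hQ'mem, hQ'fix⟩ := image_regular hL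
    (lt_of_le_of_ne (Subgroup.card_le_card_group Lc) fun e => hne (Lc.card_eq_iff_eq_top.1 e))
    h.below hba' (by
      obtain ⟨s, hs, t, ht, hst, hc⟩ := exists_four h.fix h.propF hX h3 ha hm
      exact ⟨⟨s, mem_cen hs.2⟩, coe_invAt.2 hs, ⟨t, mem_cen ht.2⟩, coe_invAt.2 ht,
        fun e => hst (congrArg Subtype.val e), Subtype.ext hc⟩)
  have hkerQ : ∀ {x : G} (hx : x ∈ Lc), (⟨x, hx⟩ : Lc) ∈ Q' → x • b = b → x ∈ N₀ :=
    fun {x} hx hxQ hxb => ⟨hx, (mem_fixingSubgroup_iff G).2 fun e he =>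
      congrArg Subtype.val (hQ'fix _ hxQ (Subtype.ext hxb) ⟨e, he⟩)⟩
  have hoddN₀ : ∀ {x : G}, x ∈ N₀ → Odd (orderOf x) := fun {x} hx =>
    (h.fix.odd_pairStab hba.symm).of_dvd_nat
      (Subgroup.orderOf_dvd_natCard _ ⟨hN₀ hx ha, hN₀ hx hb⟩)
  -- every two-element centralises the kernel
  have hcenN : ∀ g : G, g • a = a → g ∈ Lc → (∃ k, g ^ 2 ^ k = 1) →
      g ∈ Subgroup.centralizer (N₀ : Set G) := by
    rintro g hga hg ⟨k, hk⟩
    obtain ⟨o, ho, hoN, hoa, hob, i, hi⟩ := hmove _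
      (smul_mem_Fx (Subgroup.centralizer_le_normalizer _ hg) hb)
      (fun e => hba (MulAction.injective g (e.trans hga.symm)))
    have hd : o⁻¹ * g ∈ N₀ := hkerQ (Lc.mul_mem (Lc.inv_mem ho) hg)
      (Q'.mul_mem (Q'.inv_mem (hQ'mem ⟨o, ho⟩ (Subtype.ext hoa) ⟨i, Subtype.ext hi⟩))
        (hQ'mem ⟨g, hg⟩ (Subtype.ext hga) ⟨k, Subtype.ext hk⟩))
      (by rw [mul_smul, inv_smul_eq_iff, hob])
    have hcg : Commute o g := by
      show o * g = g * o
      calc o * g = o * (o * (o⁻¹ * g)) := by group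
        _ = o * (o⁻¹ * g) * o := by
          rw [mul_assoc o (o⁻¹ * g) o, Subgroup.mem_centralizer_iff.1 hoN _ hd]
        _ = g * o := by group
    have h1 : (o⁻¹ * g) ^ 2 ^ (i + k) = 1 := by
      rw [(hcg.inv_left).mul_pow, inv_pow, pow_add, pow_mul, hi, one_pow, inv_one, one_mul,
        mul_comm, pow_mul, hk, one_pow]
    have h2 := eq_one_of_two (hoddN₀ hd) h1
    rw [inv_mul_eq_one] at h2
    exact h2 ▸ hoN
  set S : Set G := {x | x • a = a ∧ x ∈ Lc ∧ ∃ k, x ^ 2 ^ k = 1}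
  set P := Subgroup.closure S
  have hPa : P ≤ stabilizer G a := (Subgroup.closure_le _).2 fun x hx => hx.1
  have hPL : P ≤ Lc := (Subgroup.closure_le _).2 fun x hx => hx.2.1
  have hPN : P ≤ Subgroup.centralizer (N₀ : Set G) :=
    (Subgroup.closure_le _).2 fun x hx => hcenN x hx.1 hx.2.1 hx.2.2
  have hPQ : ∀ {x : G} (hx : x ∈ P), (⟨x, hPL hx⟩ : Lc) ∈ Q' := by
    intro x hx
    have h1 : P ≤ (Q'.map Lc.subtype) := (Subgroup.closure_le _).2 fun y hy =>
      ⟨⟨y, hy.2.1⟩, hQ'mem _ (Subtype.ext hy.1) (hy.2.2.imp fun _ => Subtype.ext), rfl⟩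
    obtain ⟨y, hy, hyx⟩ := h1 hx
    exact (show y = ⟨x, hPL hx⟩ from Subtype.ext hyx) ▸ hy
  -- each element is a two-element times a central one
  have hdec : ∀ x : P, ∃ o d : P, x = o * d ∧ (∃ k, o ^ 2 ^ k = 1) ∧ d ∈ Subgroup.center P ∧
      Odd (orderOf d) := by
    rintro ⟨x, hx⟩
    obtain ⟨o, ho, -, hoa, hob, i, hi⟩ := hmove _
      (smul_mem_Fx (Subgroup.centralizer_le_normalizer _ (hPL hx)) hb)
      (fun e => hba (MulAction.injective x (e.trans (hPa hx : x • a = a).symm)))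
    have hoP : o ∈ P := Subgroup.subset_closure ⟨hoa, ho, i, hi⟩
    have hd : o⁻¹ * x ∈ N₀ := hkerQ (hPL (mul_mem (inv_mem hoP) hx))
      (hPQ (mul_mem (inv_mem hoP) hx)) (by rw [mul_smul, inv_smul_eq_iff, hob])
    refine ⟨⟨o, hoP⟩, ⟨o⁻¹ * x, mul_mem (inv_mem hoP) hx⟩, Subtype.ext (by
      show x = o * (o⁻¹ * x); group), ⟨i, Subtype.ext hi⟩, ?_, ?_⟩
    · exact Subgroup.mem_center_iff.2 fun g =>
        Subtype.ext (Subgroup.mem_centralizer_iff.1 (hPN g.2) _ hd).symm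
    · rw [← Subgroup.orderOf_coe]
      exact hoddN₀ hd
  have htwo : ∀ x : P, ∃ k, (x : G) ^ 2 ^ k = 1 := by
    intro x
    obtain ⟨o, d, rfl, ⟨k, hk⟩, hd, hdo⟩ := hdec x
    haveI : Fact (Nat.Prime 2) := ⟨Nat.prime_two⟩
    have hquot : IsPGroup 2 (P ⧸ Subgroup.center P) := fun z => by
      obtain ⟨y, rfl⟩ := QuotientGroup.mk_surjective z
      obtain ⟨o', d', rfl, ⟨k', hk'⟩, hd', -⟩ := hdec y
      refine ⟨k', ?_⟩
      rw [← QuotientGroup.mk_pow, QuotientGroup.eq_one_iff,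
        (show Commute o' d' from Subgroup.mem_center_iff.1 hd' o').mul_pow, hk', one_mul]
      exact pow_mem hd' _
    obtain ⟨i, hi⟩ := IsPGroup.iff_card.1 hquot
    set M₂ := 2 ^ Nat.card G
    have hkill : ∀ y : P, (MonoidHom.transferCenterPow P y) ^ M₂ = 1 := by
      rintro ⟨y, hy⟩
      induction hy using Subgroup.closure_induction with
      | mem z hz =>
        obtain ⟨l, hl⟩ := hz.2.2
        obtain ⟨l', hl', hl''⟩ := (Nat.dvd_prime_pow Nat.prime_two).1 (orderOf_dvd_of_pow_eq_one hl)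
        have hle : l' ≤ Nat.card G :=
          (Nat.lt_pow_self Nat.one_lt_two).le.trans (hl'' ▸ Nat.le_of_dvd Nat.card_pos (orderOf_dvd_natCard z))
        refine Subtype.ext (Subtype.ext ?_)
        rw [SubmonoidClass.coe_pow, MonoidHom.transferCenterPow_apply, SubmonoidClass.coe_pow]
        show (z ^ _) ^ M₂ = 1
        rw [← pow_mul, mul_comm, pow_mul]
        have h0 : z ^ M₂ = 1 := by
          refine orderOf_dvd_iff_pow_eq_one.1 ?_
          rw [hl'']
          exact pow_dvd_pow 2 hle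
        rw [h0, one_pow]
      | one =>
        show (MonoidHom.transferCenterPow P 1) ^ M₂ = 1
        rw [map_one, one_pow]
      | mul z w hz hw ihz ihw =>
        rw [show (⟨z * w, mul_mem hz hw⟩ : P) = ⟨z, hz⟩ * ⟨w, hw⟩ from rfl, map_mul,
          (show Commute _ _ from Subgroup.mem_center_iff.1 (MonoidHom.transferCenterPow P ⟨w, hw⟩).2
            (MonoidHom.transferCenterPow P ⟨z, hz⟩ : P) |> Subtype.ext).mul_pow, ihz, ihw, one_mul]
      | inv z hz ihz =>
        rw [show (⟨z⁻¹, inv_mem hz⟩ : P) = ⟨z, hz⟩⁻¹ from rfl, map_inv, inv_pow, ihz, inv_one]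
    have h1 : d ^ 2 ^ (i + Nat.card G) = 1 := by
      have := congrArg Subtype.val (hkill d)
      rw [SubmonoidClass.coe_pow, MonoidHom.transferCenterPow_apply, ← pow_mul] at this
      rw [pow_add, ← hi]
      exact this
    have h2 : d = 1 := eq_one_of_two hdo h1
    refine ⟨k, ?_⟩
    rw [h2, mul_one, ← SubmonoidClass.coe_pow, hk, OneMemClass.coe_one]
  refine ⟨P, le_inf hPa hPL, fun x hxa hx h2 => Subgroup.subset_closure ⟨hxa, hx, h2⟩,
    fun x hx => htwo ⟨x, hx⟩, fun y z hy hya hz hza => ?_⟩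
  obtain ⟨o, ho, -, hoa, hob, i, hi⟩ := hmove y hy hya
  obtain ⟨o', ho', -, hoa', hob', i', hi'⟩ := hmove z hz hza
  refine ⟨o' * o⁻¹, mul_mem (Subgroup.subset_closure ⟨hoa', ho', i', hi'⟩)
    (inv_mem (Subgroup.subset_closure ⟨hoa, ho, i, hi⟩)), ?_⟩
  rw [mul_smul, inv_smul_eq_iff.2 hob.symm, hob']

/-- `Q` passes to a group normalising `U` and fixing `a`. -/
theorem HasQ.of_normal (hG : OneFix G Ω) {U V : Subgroup G} {a : Ω} (hQ : HasQ U a) (hUV : U ≤ V)
    (hn : V ≤ Subgroup.normalizer (U : Set G)) (ha : a ∈ Fx V) : HasQ V a := by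
  obtain ⟨Q, hQle, hQmem, hQtwo, hQtr⟩ := hQ
  refine ⟨Q ⊓ Subgroup.centralizer (V : Set G), fun x hx => ⟨(hQle hx.1).1, hx.2⟩,
    fun x hxa hx h2 => ⟨hQmem x hxa (Subgroup.centralizer_le hUV hx) h2, hx⟩,
    fun x hx => hQtwo x hx.1, fun y z hy hya hz hza => ?_⟩
  obtain ⟨q, hq, hqy⟩ := hQtr y z (Fx_anti hUV hy) hya (Fx_anti hUV hz) hza
  refine ⟨q, ⟨hq, Subgroup.mem_centralizer_iff.2 fun v hv => ?_⟩, hqy⟩
  have hqa : q • a = a := (hQle hq).1
  have hva : v • a = a := ha hv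
  have hvy : v • y = y := hy hv
  have hvz : v • z = z := hz hv
  have hmem : v * q * v⁻¹ ∈ Q := by
    refine hQmem _ ?_ ?_ ?_
    · rw [mul_smul, mul_smul, inv_smul_eq_iff.2 hva.symm, hqa, hva]
    · refine Subgroup.mem_centralizer_iff.2 fun x hx => ?_
      have h1 : v⁻¹ * x * v ∈ U := (Subgroup.mem_normalizer_iff''.1 (hn hv) x).1 hx
      have h2 := Subgroup.mem_centralizer_iff.1 (hQle hq).2 _ h1
      calc x * (v * q * v⁻¹) = v * (v⁻¹ * x * v * q) * v⁻¹ := by group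
        _ = v * q * v⁻¹ * x := by rw [h2]; group
    · obtain ⟨k, hk⟩ := hQtwo q hq
      exact ⟨k, by rw [conj_pow, hk, mul_one, mul_inv_cancel]⟩
  have he : q⁻¹ * (v * q * v⁻¹) = 1 := by
    refine eq_one_of_fix hG hya ((stabilizer G a).mul_mem ((stabilizer G a).inv_mem hqa)
      (hQle hmem).1) ?_ (hQtwo _ (mul_mem (inv_mem hq) hmem))
    rw [mul_smul, inv_smul_eq_iff, mul_smul, mul_smul, inv_smul_eq_iff.2 hvy.symm, hqy, hvz]
  rw [inv_mul_eq_one] at he
  exact mul_inv_eq_iff_eq_mul.1 he.symm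

/-- A group of prime power order fixing `a` and `b` with a non-single element has `Q`. -/
theorem hasQ_of_nonsingle (h : Ctx G Ω) {p : ℕ} [Fact p.Prime] {a b : Ω} (hab : b ≠ a) {y : G}
    (hy1 : y ≠ 1) (hns : ¬ IsSingle (Subgroup.zpowers y) a) :
    ∀ (V : Subgroup G), IsPGroup p V → V ≤ pairStab G a b → y ∈ V → HasQ V a := by
  suffices H : ∀ (n : ℕ) (V : Subgroup G), Nat.card V = n → IsPGroup p V → V ≤ pairStab G a b →
      y ∈ V → HasQ V a from fun V => H _ V rfl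
  intro n
  induction n using Nat.strong_induction_on with
  | _ n IH =>
  intro V hn hV hVD hyV
  have hle : Subgroup.zpowers y ≤ V := Subgroup.zpowers_le.2 hyV
  rcases hle.eq_or_lt with e | hlt
  · have haX : a ∈ Fx V := hVD.trans inf_le_left
    have hbX : b ∈ Fx V := hVD.trans inf_le_right
    by_cases h3 : ∃ c, c ∈ Fx V ∧ c ≠ a ∧ c ≠ b
    swap
    · push Not at h3
      exact hasQ_two h.fix hab hbX h3
    obtain ⟨c, hc, hca, hcb⟩ := h3
    have h3' : Three V Ω := ⟨a, b, c, hab.symm, hca, hcb, haX, hbX, hc⟩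
    obtain ⟨s, hs⟩ := exists_cen h.fix h.propF hV h3' haX
    haveI : Nonempty ↥(invCen V a) := ⟨⟨s, hs⟩⟩
    exact hasQ_good h hV (e ▸ Subgroup.zpowers_ne_bot.2 hy1) h3' haX
      (lt_of_le_of_ne Nat.card_pos fun e' => hns (e.symm ▸ ⟨h3', haX, e'.symm⟩))
  · have hT : (Subgroup.zpowers y).subgroupOf V ≠ ⊤ := fun e =>
      hlt.not_ge (Subgroup.subgroupOf_eq_top.1 e)
    obtain ⟨W, hW, hyW⟩ :=
      (eq_top_or_exists_le_coatom ((Subgroup.zpowers y).subgroupOf V)).resolve_left hT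
    haveI := hV.isNilpotent
    haveI : W.Normal := Subgroup.NormalizerCondition.normal_of_coatom W
      Group.normalizerCondition_of_isNilpotent hW
    set U := W.map V.subtype
    have hUV : U ≤ V := Subgroup.map_subtype_le W
    have hyU : y ∈ U := ⟨⟨y, hyV⟩, hyW (Subgroup.mem_zpowers y), rfl⟩
    have hlt' : Nat.card U < n := by
      rw [Subgroup.card_map_of_injective V.subtype_injective, ← hn]
      exact lt_of_le_of_ne (Subgroup.card_le_card_group W)
        fun e => hW.1 (W.card_eq_iff_eq_top.1 e)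
    refine (IH _ hlt' U rfl (hV.to_le hUV) (hUV.trans hVD) hyU).of_normal h.fix hUV ?_
      (hVD.trans inf_le_left)
    intro v hv
    refine Subgroup.mem_normalizer_iff.2 fun k => ⟨?_, ?_⟩
    · rintro ⟨w, hw, rfl⟩
      exact ⟨⟨v, hv⟩ * w * ⟨v, hv⟩⁻¹, ‹W.Normal›.conj_mem w hw _, rfl⟩
    · rintro ⟨w, hw, hwk⟩
      refine ⟨⟨v, hv⟩⁻¹ * w * ⟨v, hv⟩, ‹W.Normal›.conj_mem' w hw _, ?_⟩
      show v⁻¹ * (w : G) * v = k
      rw [show (w : G) = v * k * v⁻¹ from hwk]
      group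

/-- With `Q` the other fixed points number a power of two. -/
theorem HasQ.card_eq_two_pow (hG : OneFix G Ω) {U : Subgroup G} {a b : Ω} (hQ : HasQ U a)
    (hb : b ∈ Fx U) (hba : b ≠ a) :
    ∃ j : ℕ, Nat.card {e : Ω // e ∈ Fx U ∧ e ≠ a} = 2 ^ j := by
  obtain ⟨Q, hQle, -, hQtwo, hQtr⟩ := hQ
  haveI : Fact (Nat.Prime 2) := ⟨Nat.prime_two⟩
  have hQP : IsPGroup 2 Q := fun x => (hQtwo x x.2).imp fun k hk => Subtype.ext hk
  obtain ⟨j, hj⟩ := IsPGroup.iff_card.1 hQP
  refine ⟨j, hj ▸ (Nat.card_eq_of_bijective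
    (fun q : Q => (⟨(q : G) • b, smul_mem_Fx (Subgroup.centralizer_le_normalizer _ (hQle q.2).2) hb,
      fun e => hba (MulAction.injective (q : G) (e.trans ((hQle q.2).1 : (q : G) • a = a).symm))⟩ :
        {e : Ω // e ∈ Fx U ∧ e ≠ a})) ⟨fun q r hqr => ?_, fun e => ?_⟩).symm⟩
  · have h1 : (q : G) • b = (r : G) • b := congrArg Subtype.val hqr
    refine Subtype.ext (inv_mul_eq_one.1 (eq_one_of_fix hG hba
      (hQle (mul_mem (inv_mem r.2) q.2)).1 ?_ (hQtwo _ (mul_mem (inv_mem r.2) q.2)))).symm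
    rw [mul_smul, h1, inv_smul_smul]
  · obtain ⟨q, hq, hq'⟩ := hQtr b e hb hba e.2.1 e.2.2
    exact ⟨⟨q, hq⟩, Subtype.ext hq'⟩

/-- `Q` moves the fixed points inside `L`. -/
theorem HasQ.trans_invGp (h : Ctx G Ω) {U : Subgroup G} {a b : Ω} (hab : b ≠ a)
    (hc : ¬ Comm G a) (hQ : HasQ U a) {y z : Ω} (hy : y ∈ Fx U) (hya : y ≠ a) (hz : z ∈ Fx U)
    (hza : z ≠ a) :
    ∃ g ∈ invGp G a, g ∈ Subgroup.centralizer (U : Set G) ∧ g • y = z := by
  obtain ⟨Q, hQle, -, hQtwo, hQtr⟩ := hQ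
  obtain ⟨q, hq, hqy⟩ := hQtr y z hy hya hz hza
  obtain ⟨k, hk⟩ := hQtwo q hq
  exact ⟨q, mem_invGp_of_two_pow h hab hc (hQle hq).1 hk, (hQle hq).2, hqy⟩

end Cfsg.Agent.Lib.BenderOne8.Single
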