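import Mathlib
import Cfsg.Agent.Lib.BenderOne8.Single.Transfer
import Cfsg.Agent.Lib.BenderOne8.Single.TwoElements
import Cfsg.Agent.Lib.Coprime.Generation
import Cfsg.Agent.Lib.OddOrder.UniqueRank

/-!
# Bender's theorem, part one, node C2: the primes of `(D ∩ L)^ab`

If some element of order `q` of `D ∩ L` is not single, `L` moves the fixed points of every
`q`-subgroup transitively in its centraliser, so by transfer `q` divides no abelian quotient of
`D ∩ L` (`notes/bender_nodeC2_short_helper36.md`, A3 to A5).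
-/

set_option autoImplicit false
set_option linter.style.haveILetI false
set_option linter.unusedSectionVars false

namespace Cfsg.Agent.Lib.BenderOne8.Single

open MulAction Cfsg.Agent.Lib.Involutions.Basic
open Cfsg.Agent.Lib.BenderOne20

universe u

variable {G Ω : Type u} [Group G] [MulAction G Ω] [Finite G]

/-- A non-cyclic subgroup of `l`-power order of `D` has a non-single element of order `l`. -/
theorem exists_nonsingle (h : Ctx G Ω) {a b : Ω} (hab : b ≠ a) (hW : W0One G a b) {l : ℕ}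
    [Fact l.Prime] (hl2 : l ≠ 2) {V : Subgroup G} (hV : IsPGroup l V)
    (hVD : V ≤ pairStab G a b) (hnc : ¬ IsCyclic V) :
    ∃ y ∈ V, y ^ l = 1 ∧ y ≠ 1 ∧ ¬ IsSingle (Subgroup.zpowers y) a := by
  by_contra! hall
  obtain ⟨E₀, -, hE₀, hE₀c⟩ := PGroups.exists_normal_elemAb_sq hl2 hV hnc
  set B := E₀.map V.subtype
  have hBV : B ≤ V := Subgroup.map_subtype_le E₀
  have hBc : Nat.card B = l ^ 2 := by
    rw [Subgroup.card_map_of_injective V.subtype_injective, hE₀c]
  have hB : Cfsg.IsElementaryAbelian l B := PGroups.elemAb_map V.subtype hE₀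
  have hpow : ∀ x ∈ B, x ^ l = 1 := fun x hx => PGroups.elemAb_pow hB hx
  have hcomm : ∀ x ∈ B, ∀ y ∈ B, x * y = y * x := fun x hx y hy =>
    PGroups.elemAb_comm hB hx hy
  have hsingle : ∀ x ∈ B, x ≠ 1 → IsSingle (Subgroup.zpowers x) a := fun x hx hx1 =>
    hall x (hBV hx) (hpow x hx) hx1
  haveI : Nontrivial B := Finite.one_lt_card_iff_nontrivial.1
    (hBc ▸ Nat.one_lt_pow two_ne_zero (Fact.out : l.Prime).one_lt)
  obtain ⟨⟨e, he⟩, he1⟩ := exists_ne (1 : B)
  have he1' : e ≠ 1 := fun e' => he1 (Subtype.ext e')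
  obtain ⟨f, hf, hfe⟩ : ∃ f ∈ B, f ∉ Subgroup.zpowers e := by
    by_contra! hc
    have h1 := Subgroup.card_le_of_le (show B ≤ Subgroup.zpowers e from hc)
    rw [hBc, Nat.card_zpowers] at h1
    have h2 := Nat.le_of_dvd (Fact.out : l.Prime).pos (orderOf_dvd_of_pow_eq_one (hpow e he))
    nlinarith [(Fact.out : l.Prime).one_lt]
  have hBs : IsSingle B a := (hsingle e he he1').of_le hab h.fix (hV.to_le hBV)
    (Subgroup.zpowers_le.2 he) (hBV.trans hVD)
  obtain ⟨-, ⟨⟨t, ht⟩⟩⟩ := Nat.card_eq_one_iff_unique.1 hBs.2.2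
  have hcen : ∀ z ∈ B, z ≠ 1 → ∀ d ∈ pairStab G a b, d * z = z * d → d * t = t * d := by
    intro z hz hz1 d hd hdz
    obtain ⟨hsub, -⟩ := Nat.card_eq_one_iff_unique.1 (hsingle z hz hz1).2.2
    have hzt : Subgroup.zpowers z ≤ Subgroup.centralizer {t} := (Subgroup.zpowers_le.2 hz).trans ht.2
    have hdt : d * t * d⁻¹ ∈ invCen (Subgroup.zpowers z) a := by
      refine ⟨?_, cen_conj (Subgroup.centralizer_le_normalizer _ ?_) hzt⟩
      · have h1 := OneFix.conj_mem_invAt (g := d) ht.1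
        rwa [(hd.1 : d • a = a)] at h1
      · exact Subgroup.mem_centralizer_iff.2 fun x hx => by
          obtain ⟨i, rfl⟩ := Subgroup.mem_zpowers_iff.1 hx
          exact ((show Commute d z from hdz).zpow_right i).eq.symm
    exact mul_inv_eq_iff_eq_mul.1
      (congrArg Subtype.val (hsub.elim ⟨_, hdt⟩ ⟨t, ht.1, hzt⟩))
  haveI : Group.IsSolvable (pairStab G a b) :=
    OddOrder.FeitThompson.isSolvable_of_odd_card (h.fix.odd_pairStab hab.symm)
  have hD1 : pairStab G a b ≠ ⊥ := fun e' => he1' (Subgroup.mem_bot.1 (e' ▸ hVD (hBV he)))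
  obtain ⟨r, M, hr, hM1, hMD, hDM, hMr⟩ := Coprime.exists_normal_pSubgroup hD1
  haveI := Fact.mk hr
  have hBM : B ≤ Subgroup.normalizer (M : Set G) := (hBV.trans hVD).trans hDM
  -- `M` centralises `t`
  have hMt : M ≤ Subgroup.centralizer {t} := by
    rcases eq_or_ne r l with rfl | hne
    · have hMB : IsPGroup r (B ⊔ M : Subgroup G) :=
        (hV.to_le hBV).to_sup_of_normal_right' hMr hBM
      have hMBs : IsSingle (B ⊔ M) a :=
        hBs.of_le hab h.fix hMB le_sup_left (sup_le (hBV.trans hVD) hMD)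
      obtain ⟨-, ⟨⟨t', ht'⟩⟩⟩ := Nat.card_eq_one_iff_unique.1 hMBs.2.2
      have htt : t' = t := congrArg Subtype.val ((Nat.card_eq_one_iff_unique.1 hBs.2.2).1.elim
        (⟨t', ht'.1, le_sup_left.trans ht'.2⟩ : invCen B a) ⟨t, ht⟩)
      exact htt ▸ le_sup_right.trans ht'.2
    · have hcop : l.Coprime (Nat.card M) := by
        obtain ⟨n, hn⟩ := IsPGroup.iff_card.1 hMr
        rw [hn]
        exact ((Nat.coprime_primes Fact.out hr).2 hne.symm).pow_right n
      have hcl : Subgroup.closure ({e, f} : Set G) ≤ B := (Subgroup.closure_le _).2 (by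
        rintro x (rfl | rfl)
        exacts [he, hf])
      have hgen := Coprime.le_lineCentralizers (q := l) (e := e) (f := f) (hcomm e he f hf)
        (K := M) (hBM he) (hBM hf) (by rw [hpow e he]; exact one_mem _)
        (by rw [hpow f hf]; exact one_mem _)
        (Nat.Coprime.coprime_dvd_left (Subgroup.card_dvd_of_le hcl)
          (hBc ▸ hcop.pow_left 2)) hcop
      refine hgen.trans (sup_le ?_ (iSup_le fun i => ?_))
      · intro d hd
        refine Subgroup.mem_centralizer_singleton_iff.2 (hcen f hf ?_ d (hMD hd.1)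
          (Subgroup.mem_centralizer_singleton_iff.1 hd.2))
        rintro rfl
        exact hfe (one_mem _)
      · intro d hd
        refine Subgroup.mem_centralizer_singleton_iff.2 (hcen (e * f ^ i.val)
          (mul_mem he (pow_mem hf _)) ?_ d (hMD hd.1)
          (Subgroup.mem_centralizer_singleton_iff.1 hd.2))
        intro e'
        rcases eq_or_ne i 0 with rfl | hi
        · rw [ZMod.val_zero, pow_zero, mul_one] at e'
          exact he1' e'
        · have hfi : f ^ i.val ∈ Subgroup.zpowers e := by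
            rw [eq_inv_of_mul_eq_one_right e']
            exact inv_mem (Subgroup.mem_zpowers e)
          have hcop' : i.val.Coprime (orderOf f) := by
            refine Nat.Coprime.coprime_dvd_right (orderOf_dvd_of_pow_eq_one (hpow f hf)) ?_
            exact Nat.coprime_comm.1 (((Fact.out : l.Prime).coprime_iff_not_dvd).2 fun hd' =>
              hi ((ZMod.val_eq_zero i).1 (Nat.eq_zero_of_dvd_of_lt hd' (ZMod.val_lt i))))
          obtain ⟨m, hm⟩ := exists_pow_eq_self_of_coprime hcop'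
          exact hfe (hm ▸ pow_mem hfi m)
  refine hM1 (eq_bot_iff.2 fun m hm => Subgroup.mem_bot.2 (hW m (hMD hm) fun s hs => ?_))
  obtain ⟨d, hd, rfl⟩ := h.fix.pairStab_conj_invAt hab.symm ht.1 hs
  have h1 := Subgroup.mem_centralizer_singleton_iff.1
    (hMt ((Subgroup.mem_normalizer_iff''.1 (hDM hd) m).1 hm))
  calc m * (d * t * d⁻¹) = d * (d⁻¹ * m * d * t) * d⁻¹ := by group
    _ = d * t * d⁻¹ * m := by rw [h1]; group

omit [Finite G] in
theorem map_conj_inv (H : Subgroup G) (g : G) :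
    (H.map (MulAut.conj g).toMonoidHom).map (MulAut.conj g⁻¹).toMonoidHom = H := by
  rw [Subgroup.map_map]
  convert Subgroup.map_id H
  ext x
  simp [mul_assoc]

/-- Singles move with an element fixing `a`. -/
theorem IsSingle.conj {a : Ω} {g : G} (hg : g • a = a) {X : Subgroup G} (hX : IsSingle X a) :
    IsSingle (X.map (MulAut.conj g).toMonoidHom) a := by
  have hfx : ∀ {g : G} {X : Subgroup G} {e : Ω}, e ∈ Fx X →
      g • e ∈ Fx (X.map (MulAut.conj g).toMonoidHom) := by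
    rintro g X e he _ ⟨k, hk, rfl⟩
    show (g * k * g⁻¹) • g • e = g • e
    rw [mul_smul, mul_smul, inv_smul_smul, (he hk : k • e = e)]
  have hcv : ∀ {g : G} {X : Subgroup G}, g • a = a → ∀ {r : G}, r ∈ invCen X a →
      g * r * g⁻¹ ∈ invCen (X.map (MulAut.conj g).toMonoidHom) a := by
    intro g X hg r hr
    refine ⟨?_, ?_⟩
    · have h1 := OneFix.conj_mem_invAt (g := g) hr.1
      rwa [hg] at h1
    · rintro _ ⟨k, hk, rfl⟩
      have h1 := Subgroup.mem_centralizer_singleton_iff.1 (hr.2 hk)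
      refine Subgroup.mem_centralizer_singleton_iff.2 ?_
      show g * k * g⁻¹ * (g * r * g⁻¹) = g * r * g⁻¹ * (g * k * g⁻¹)
      calc g * k * g⁻¹ * (g * r * g⁻¹) = g * (k * r) * g⁻¹ := by group
        _ = g * (r * k) * g⁻¹ := by rw [h1]
        _ = g * r * g⁻¹ * (g * k * g⁻¹) := by group
  obtain ⟨⟨x, y, z, h1, h2, h3, hx, hy, hz⟩, ha, hone⟩ := hX
  refine ⟨⟨g • x, g • y, g • z, (MulAction.injective g).ne h1, (MulAction.injective g).ne h2,
    (MulAction.injective g).ne h3, hfx hx, hfx hy, hfx hz⟩, hg ▸ hfx ha, ?_⟩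
  rw [← hone]
  refine Nat.card_congr
    { toFun := fun r => ⟨g⁻¹ * r.1 * g, ?_⟩
      invFun := fun r => ⟨g * r.1 * g⁻¹, hcv hg r.2⟩
      left_inv := fun r => Subtype.ext (by simp [mul_assoc])
      right_inv := fun r => Subtype.ext (by simp [mul_assoc]) }
  have h1 := hcv (g := g⁻¹) (inv_smul_eq_iff.2 hg.symm) r.2
  rwa [map_conj_inv, inv_inv] at h1

/-- The others are congruent to the fixed points of an `l`-group at `a`. -/
theorem others_modEq (h : Ctx G Ω) {l : ℕ} [Fact l.Prime] {U : Subgroup G} {a : Ω}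
    (hU : IsPGroup l U) (ha : a ∈ Fx U) :
    Nat.card (others G a) ≡ Nat.card {e : Ω // e ∈ Fx U ∧ e ≠ a} [MOD l] := by
  haveI : Finite Ω := by
    haveI := h.fix.trans
    exact Finite.of_surjective (fun g : G => g • a) (fun z => exists_smul_eq G a z)
  letI : MulAction U (others G a) :=
    { smul := fun g e => ⟨(g : G) • e.1, fun h' => e.2 (MulAction.injective (g : G)
        (h'.trans (ha g.2 : (g : G) • a = a).symm))⟩
      one_smul := fun e => Subtype.ext (one_smul G e.1)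
      mul_smul := fun g k e => Subtype.ext (mul_smul (g : G) (k : G) e.1) }
  refine (hU.card_modEq_card_fixedPoints (others G a)).trans (congrArg (· % l) ?_)
  exact Nat.card_congr
    { toFun := fun e => ⟨e.1.1, fun x hx => congrArg Subtype.val (e.2 ⟨x, hx⟩), e.1.2⟩
      invFun := fun e => ⟨⟨e.1, e.2.2⟩, fun x => Subtype.ext (e.2.1 x.2)⟩
      left_inv := fun e => rfl
      right_inv := fun e => rfl }

section Prime

variable (h : Ctx G Ω) {a b : Ω} (hab : b ≠ a) (hc : ¬ Comm G a) (hW : W0One G a b) {l : ℕ}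
  [Fact l.Prime] {P : Subgroup G} (hP : SylowIn l P (dL G a b)) {w : G} (hwP : w ∈ P)
  (hw1 : w ≠ 1) (hwns : ¬ IsSingle (Subgroup.zpowers w) a)

include h hab hP hwP hw1 in
theorem ne_two_of_mem : l ≠ 2 := by
  rintro rfl
  have hodd := (h.fix.odd_pairStab hab.symm).of_dvd_nat
    (Subgroup.orderOf_dvd_natCard _ (hP.1 hwP).2)
  obtain ⟨k, hk⟩ := IsPGroup.iff_orderOf.1 hP.isPGroup ⟨w, hwP⟩
  rw [Subgroup.orderOf_mk] at hk
  cases k with
  | zero => exact hw1 (orderOf_eq_one_iff.1 (hk.trans (pow_zero 2)))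
  | succ k =>
    rw [hk] at hodd
    exact Nat.not_even_iff_odd.2 hodd ((Nat.even_pow' k.succ_ne_zero).2 even_two)

include h hab hP hwP hw1 hwns

theorem not_dvd_others : ¬ l ∣ Nat.card (others G a) := by
  have hl2 := ne_two_of_mem h hab hP hwP hw1
  have hle : Subgroup.zpowers w ≤ pairStab G a b :=
    Subgroup.zpowers_le.2 ((hP.1.trans inf_le_right) hwP)
  have hwl : IsPGroup l (Subgroup.zpowers w) := hP.isPGroup.to_le (Subgroup.zpowers_le.2 hwP)
  have hQ := hasQ_of_nonsingle h hab hw1 hwns _ hwl hle (Subgroup.mem_zpowers w)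
  obtain ⟨j, hj⟩ := hQ.card_eq_two_pow h.fix (hle.trans inf_le_right) hab
  intro hd
  have h1 := others_modEq h hwl (hle.trans inf_le_left)
  rw [hj] at h1
  exact hl2 ((Nat.prime_dvd_prime_iff_eq Fact.out Nat.prime_two).1 ((Fact.out : l.Prime).dvd_of_dvd_pow
    (Nat.modEq_zero_iff_dvd.1 (h1.symm.trans (Nat.modEq_zero_iff_dvd.2 hd)))))

include hc

theorem exists_nonsingle_sylow {e : Ω} (he : e ≠ a) {M : Subgroup G}
    (hM : SylowIn l M (dL G a e)) : ∃ y ∈ M, y ≠ 1 ∧ ¬ IsSingle (Subgroup.zpowers y) a := by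
  obtain ⟨g, hg, hge⟩ := invGp_trans h hab hc hab he
  have hga : g • a = a := invGp_le a hg
  have hmap : (dL G a b).map (MulAut.conj g).toMonoidHom = dL G a e := by
    rw [Subgroup.map_inf _ _ _ (MulAut.conj g).injective,
      Subgroup.map_inf _ _ _ (MulAut.conj g).injective,
      ← MulAction.stabilizer_smul_eq_stabilizer_map_conj,
      ← MulAction.stabilizer_smul_eq_stabilizer_map_conj,
      map_conj_of_mem (invGp_normalizer a hga), hga, hge]
  have hP' := hP.map_conj g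
  rw [hmap] at hP'
  obtain ⟨d, hd, hd'⟩ := hP'.conj_eq hM
  refine ⟨d * g * w * (d * g)⁻¹, ?_, fun e' => hw1 ?_, fun hs => hwns ?_⟩
  · rw [← hd']
    exact ⟨g * w * g⁻¹, ⟨w, hwP, rfl⟩, by simp [mul_assoc]⟩
  · rwa [mul_inv_eq_one, mul_eq_left] at e'
  · have hdg : (d * g)⁻¹ • a = a :=
      (stabilizer G a).inv_mem ((stabilizer G a).mul_mem hd.2.1 hga)
    have h1 := hs.conj hdg
    rwa [MonoidHom.map_zpowers, MulEquiv.coe_toMonoidHom, MulAut.conj_apply, inv_inv,
      show (d * g)⁻¹ * (d * g * w * (d * g)⁻¹) * (d * g) = w by group] at h1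

include hW

/-- `C_L(U)` moves the fixed points of every non-trivial `l`-subgroup `U` of `L`. -/
theorem trans_cent (U : Subgroup G) (hU : IsPGroup l U) (hU1 : U ≠ ⊥) (hUL : U ≤ invGp G a)
    {e e' : Ω} (he : e ∈ Fx U) (hea : e ≠ a) (he' : e' ∈ Fx U) (hea' : e' ≠ a) :
    ∃ c ∈ invGp G a, c ∈ Subgroup.centralizer (U : Set G) ∧ c • e = e' := by
  suffices H : ∀ (n : ℕ) (U : Subgroup G), Nat.card G - Nat.card U = n → IsPGroup l U → U ≠ ⊥ →
      U ≤ invGp G a → ∀ e e' : Ω, e ∈ Fx U → e ≠ a → e' ∈ Fx U → e' ≠ a →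
        ∃ c ∈ invGp G a, c ∈ Subgroup.centralizer (U : Set G) ∧ c • e = e' from
    H _ U rfl hU hU1 hUL e e' he hea he' hea'
  have hl2 := ne_two_of_mem h hab hP hwP hw1
  have hndvd := not_dvd_others h hab hP hwP hw1 hwns
  intro n
  induction n using Nat.strong_induction_on with
  | _ n IH =>
  intro U hn hU hU1 hUL e e' he hea he' hea'
  have haU : a ∈ Fx U := hUL.trans (invGp_le a)
  have hUe : U ≤ pairStab G a e := le_inf haU he
  by_cases hns : ∃ y ∈ U, y ≠ 1 ∧ ¬ IsSingle (Subgroup.zpowers y) a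
  · obtain ⟨y, hy, hy1, hyns⟩ := hns
    exact (hasQ_of_nonsingle h hea hy1 hyns U hU hUe hy).trans_invGp h hab hc he hea he' hea'
  have hWe : W0One G a e := by
    intro d hd hdJ
    obtain ⟨g, hg, hge⟩ := invGp_trans h hab hc hab hea
    have hga : g • a = a := invGp_le a hg
    have h1 : g⁻¹ * d * g = 1 := by
      refine hW _ ⟨?_, ?_⟩ fun t ht => ?_
      · show (g⁻¹ * d * g) • a = a
        rw [mul_smul, mul_smul, hga, (hd.1 : d • a = a), inv_smul_eq_iff, hga]
      · show (g⁻¹ * d * g) • b = b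
        rw [mul_smul, mul_smul, hge, (hd.2 : d • e = e), inv_smul_eq_iff, hge]
      · have h2 := hdJ (g * t * g⁻¹) (by
          have h3 := OneFix.conj_mem_invAt (g := g) ht
          rwa [hga] at h3)
        calc g⁻¹ * d * g * t = g⁻¹ * (d * (g * t * g⁻¹)) * g := by group
          _ = t * (g⁻¹ * d * g) := by rw [h2]; group
    calc d = g * (g⁻¹ * d * g) * g⁻¹ := by group
      _ = 1 := by rw [h1]; group
  have hcyc : IsCyclic U := by
    by_contra hnc
    obtain ⟨y, hy, -, hy1, hyns⟩ := exists_nonsingle h hea hWe hl2 hU hUe hnc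
    exact hns ⟨y, hy, hy1, hyns⟩
  -- a larger group at each fixed point
  have hbig : ∀ x, x ∈ Fx U → x ≠ a → ∃ M : Subgroup G,
      SylowIn l M (invGp G a ⊓ Subgroup.normalizer (U : Set G)) ∧ U ≤ M ∧ x ∈ Fx M ∧
      ∀ y z, y ∈ Fx M → y ≠ a → z ∈ Fx M → z ≠ a →
        ∃ c ∈ invGp G a, c ∈ Subgroup.centralizer (M : Set G) ∧ c • y = z := by
    intro x hx hxa
    have hUx : U ≤ dL G a x := le_inf hUL (le_inf haU hx)
    obtain ⟨M, hM, hUM⟩ := SylowIn.exists_ge
      (D := dL G a x ⊓ Subgroup.normalizer (U : Set G)) hU (le_inf hUx Subgroup.le_normalizer)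
    have hMU : U < M := by
      refine lt_of_le_of_ne hUM fun e' => ?_
      obtain ⟨y, hy, hy1, hyns⟩ := exists_nonsingle_sylow h hab hc hP hwP hw1 hwns hxa
        (SylowIn.of_normalizer hUx (e' ▸ hM) le_rfl)
      exact hns ⟨y, hy, hy1, hyns⟩
    have hML : M ≤ invGp G a := hM.1.trans (inf_le_left.trans inf_le_left)
    have hM1 : M ≠ ⊥ := fun e' => hU1 (eq_bot_iff.2 (e' ▸ hUM))
    have hlt : Nat.card G - Nat.card M < n := by
      have h1 : Nat.card U < Nat.card M := Set.Finite.card_lt_card (Set.toFinite _) hMU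
      have h2 := Subgroup.card_le_card_group M
      omega
    have htr := IH _ hlt M rfl hM.isPGroup hM1 hML
    refine ⟨M, ?_, hUM, hM.1.trans (inf_le_left.trans (inf_le_right.trans inf_le_right)),
      fun y z hy hya hz hza => htr y z hy hya hz hza⟩
    have hMN : M ≤ invGp G a ⊓ Subgroup.normalizer (U : Set G) :=
      le_inf hML (hM.1.trans inf_le_right)
    refine SylowIn.of_normalizer (E := (invGp G a ⊓ Subgroup.normalizer (U : Set G)) ⊓
      Subgroup.normalizer (M : Set G)) hMN ?_ le_rfl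
    obtain ⟨M', hM', hMM'⟩ := SylowIn.exists_ge
      (D := (invGp G a ⊓ Subgroup.normalizer (U : Set G)) ⊓ Subgroup.normalizer (M : Set G))
      hM.isPGroup (le_inf hMN Subgroup.le_normalizer)
    have haM : a ∈ Fx M := hML.trans (invGp_le a)
    letI : MulAction M' {y : Ω // y ∈ Fx M ∧ y ≠ a} :=
      { smul := fun g y => ⟨(g : G) • y.1, smul_mem_Fx (hM'.1 g.2).2 y.2.1, fun h' =>
          y.2.2 (MulAction.injective (g : G)
            (h'.trans (invGp_le a (hM'.1 g.2).1.1 : (g : G) • a = a).symm))⟩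
        one_smul := fun y => Subtype.ext (one_smul G y.1)
        mul_smul := fun g k y => Subtype.ext (mul_smul (g : G) (k : G) y.1) }
    haveI : Finite Ω := by
      haveI := h.fix.trans
      exact Finite.of_surjective (fun g : G => g • a) (fun z => exists_smul_eq G a z)
    obtain ⟨⟨y, hy, hya⟩, hfix⟩ : (fixedPoints M' {y : Ω // y ∈ Fx M ∧ y ≠ a}).Nonempty :=
      hM'.isPGroup.nonempty_fixed_point_of_prime_not_dvd_card _ fun hd => hndvd
        (Nat.modEq_zero_iff_dvd.1 ((others_modEq h hM.isPGroup haM).trans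
          (Nat.modEq_zero_iff_dvd.2 hd)))
    obtain ⟨c, hcL, hcM, hcy⟩ := htr y x hy hya
      (hM.1.trans (inf_le_left.trans (inf_le_right.trans inf_le_right))) hxa
    have hcM' : M'.map (MulAut.conj c).toMonoidHom ≤
        dL G a x ⊓ Subgroup.normalizer (U : Set G) := by
      rintro _ ⟨k, hk, rfl⟩
      show c * k * c⁻¹ ∈ _
      have hcU : c ∈ Subgroup.normalizer (U : Set G) :=
        Subgroup.centralizer_le_normalizer _ (Subgroup.centralizer_le hUM hcM)
      have hkc : c * k * c⁻¹ ∈ invGp G a :=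
        (invGp G a).mul_mem ((invGp G a).mul_mem hcL (hM'.1 hk).1.1) ((invGp G a).inv_mem hcL)
      refine ⟨⟨hkc, invGp_le a hkc, ?_⟩, (Subgroup.normalizer (U : Set G)).mul_mem
        ((Subgroup.normalizer (U : Set G)).mul_mem hcU (hM'.1 hk).1.2)
        ((Subgroup.normalizer (U : Set G)).inv_mem hcU)⟩
      show (c * k * c⁻¹) • x = x
      rw [mul_smul, mul_smul, inv_smul_eq_iff.2 hcy.symm,
        show k • y = y from congrArg Subtype.val (hfix ⟨k, hk⟩), hcy]
    have hMc : M ≤ M'.map (MulAut.conj c).toMonoidHom := fun m hm => ⟨m, hMM' hm, by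
      show c * m * c⁻¹ = m
      rw [← Subgroup.mem_centralizer_iff.1 hcM m hm, mul_inv_cancel_right]⟩
    have he2 := hM.eq_of_le hMc hcM' (hM'.isPGroup.map _)
    have hcard : Nat.card M' = Nat.card M := by
      rw [← he2, Subgroup.card_map_of_injective (MulAut.conj c).injective]
    have e3 := Subgroup.eq_of_le_of_card_ge hMM' hcard.le
    rw [← e3] at hM'
    exact hM'
  obtain ⟨M, hM, hUM, heM, -⟩ := hbig e he hea
  obtain ⟨M', hM', hUM', heM', htr'⟩ := hbig e' he' hea'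
  -- conjugate under the centraliser of `U`
  set N := invGp G a ⊓ Subgroup.normalizer (U : Set G)
  set C := invGp G a ⊓ Subgroup.centralizer (U : Set G)
  have hCN : C ≤ N := inf_le_inf_left _ (Subgroup.centralizer_le_normalizer _)
  have hMC : M ≤ Subgroup.normalizer (C : Set G) := by
    intro m hm
    have hmN := hM.1 hm
    refine Subgroup.mem_normalizer_iff.2 fun x => ?_
    have hC : ∀ m ∈ N, ∀ x ∈ C, m * x * m⁻¹ ∈ C := fun m hm x hx =>
      ⟨(invGp G a).mul_mem ((invGp G a).mul_mem hm.1 hx.1) ((invGp G a).inv_mem hm.1),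
        Subgroup.mem_centralizer_iff.2 fun k hk => by
        have h1 := Subgroup.mem_centralizer_iff.1 hx.2 _
          ((Subgroup.mem_normalizer_iff''.1 hm.2 k).1 hk)
        calc k * (m * x * m⁻¹) = m * (m⁻¹ * k * m * x) * m⁻¹ := by group
          _ = m * x * m⁻¹ * k := by rw [h1]; group⟩
    refine ⟨hC m hmN x, fun hx => ?_⟩
    have h1 := hC _ (inv_mem hmN) _ hx
    rwa [show m⁻¹ * (m * x * m⁻¹) * m⁻¹⁻¹ = x by group] at h1
  have hcomm : ∀ n ∈ N, ∀ m ∈ N, n * m * n⁻¹ * m⁻¹ ∈ C := by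
    intro n hn m hm
    refine ⟨(invGp G a).mul_mem ((invGp G a).mul_mem ((invGp G a).mul_mem hn.1 hm.1)
      ((invGp G a).inv_mem hn.1)) ((invGp G a).inv_mem hm.1), ?_⟩
    obtain ⟨g, hg⟩ := (Subgroup.isCyclic_iff_exists_zpowers_eq_top U).1 hcyc
    have hgU : g ∈ U := hg ▸ Subgroup.mem_zpowers g
    obtain ⟨i, hi⟩ := Subgroup.mem_zpowers_iff.1
      (hg.symm ▸ (Subgroup.mem_normalizer_iff.1 hn.2 g).1 hgU : n * g * n⁻¹ ∈ Subgroup.zpowers g)
    obtain ⟨j, hj⟩ := Subgroup.mem_zpowers_iff.1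
      (hg.symm ▸ (Subgroup.mem_normalizer_iff.1 hm.2 g).1 hgU : m * g * m⁻¹ ∈ Subgroup.zpowers g)
    have h1 : (n * m) * g * (n * m)⁻¹ = g ^ (i * j) := by
      calc (n * m) * g * (n * m)⁻¹ = n * (m * g * m⁻¹) * n⁻¹ := by group
        _ = n * g ^ j * n⁻¹ := by rw [hj]
        _ = g ^ (i * j) := by rw [← conj_zpow, ← hi, ← zpow_mul]
    have h2 : (m * n) * g * (m * n)⁻¹ = g ^ (i * j) := by
      calc (m * n) * g * (m * n)⁻¹ = m * (n * g * n⁻¹) * m⁻¹ := by group
        _ = m * g ^ i * m⁻¹ := by rw [hi]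
        _ = g ^ (i * j) := by rw [← conj_zpow, ← hj, ← zpow_mul, mul_comm]
    have h3 : Commute (n * m * n⁻¹ * m⁻¹) g := by
      show n * m * n⁻¹ * m⁻¹ * g = g * (n * m * n⁻¹ * m⁻¹)
      have h4 : n * m * n⁻¹ * m⁻¹ * g * (n * m * n⁻¹ * m⁻¹)⁻¹ = g := by
        calc n * m * n⁻¹ * m⁻¹ * g * (n * m * n⁻¹ * m⁻¹)⁻¹
            = n * m * ((m * n)⁻¹ * g * (m * n)) * (n * m)⁻¹ := by group
          _ = g := by
            obtain ⟨k, hk⟩ := Subgroup.mem_zpowers_iff.1 (hg.symm ▸
              (Subgroup.mem_normalizer_iff''.1 (mul_mem hm.2 hn.2) g).1 hgU :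
                (m * n)⁻¹ * g * (m * n) ∈ Subgroup.zpowers g)
            rw [← hk, ← conj_zpow, h1, ← h2, conj_zpow, hk]
            group
      exact mul_inv_eq_iff_eq_mul.1 h4
    refine Subgroup.mem_centralizer_iff.2 fun k hk => ?_
    obtain ⟨i', rfl⟩ := Subgroup.mem_zpowers_iff.1 (hg.symm ▸ hk : k ∈ Subgroup.zpowers g)
    exact (h3.zpow_right i').eq.symm
  obtain ⟨m₀, hm₀, hm₀'⟩ := hM.conj_eq hM'
  set S := C ⊔ M
  have hSN : S ≤ N := sup_le hCN hM.1
  have hMS : SylowIn l M S := by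
    obtain ⟨M₁, hM₁, hMM₁⟩ := SylowIn.exists_ge (D := S) hM.isPGroup le_sup_right
    rwa [hM.eq_of_le hMM₁ (hM₁.1.trans hSN) hM₁.isPGroup] at hM₁
  have hM'S : SylowIn l M' S := by
    refine ⟨?_, by rw [← hm₀', Subgroup.card_map_of_injective (MulAut.conj m₀).injective, hMS.2]⟩
    rw [← hm₀']
    rintro _ ⟨k, hk, rfl⟩
    show m₀ * k * m₀⁻¹ ∈ S
    rw [show m₀ * k * m₀⁻¹ = m₀ * k * m₀⁻¹ * k⁻¹ * k by group]
    exact mul_mem (Subgroup.mem_sup_left (hcomm m₀ hm₀ k (hM.1 hk))) (Subgroup.mem_sup_right hk)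
  obtain ⟨s, hs, hs'⟩ := hMS.conj_eq hM'S
  rw [← SetLike.mem_coe, Subgroup.coe_mul_of_right_le_normalizer_left _ _ hMC, Set.mem_mul] at hs
  obtain ⟨c, hc', m, hm, rfl⟩ := hs
  have hcM : ∀ k ∈ M', c⁻¹ * k * c ∈ M := by
    intro k hk
    rw [← hs'] at hk
    obtain ⟨k₀, hk₀, rfl⟩ := hk
    show c⁻¹ * (c * m * k₀ * (c * m)⁻¹) * c ∈ M
    rw [show c⁻¹ * (c * m * k₀ * (c * m)⁻¹) * c = m * k₀ * m⁻¹ by group]
    exact mul_mem (mul_mem hm hk₀) (inv_mem hm)
  have hce : c • e ∈ Fx M' := fun k hk => by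
    show k • c • e = c • e
    have h1 : (c⁻¹ * k * c) • e = e := heM (hcM k hk)
    rwa [mul_smul, mul_smul, inv_smul_eq_iff] at h1
  have hcea : c • e ≠ a := fun e'' =>
    hea (MulAction.injective c (e''.trans (invGp_le a hc'.1 : c • a = a).symm))
  obtain ⟨c', hc'L, hc'M, hc'e⟩ := htr' _ e' hce hcea heM' hea'
  exact ⟨c' * c, mul_mem hc'L hc'.1,
    mul_mem (Subgroup.centralizer_le hUM' hc'M) hc'.2, by rw [mul_smul, hc'e]⟩

end Prime

omit [MulAction G Ω] in
/-- A cyclic Sylow subgroup not in the kernel of a homomorphism onto a group of order `q` has a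
normal complement. -/
theorem exists_normal_complement {H : Subgroup G} {q : ℕ} (hq : q.Prime) {A : Type*} [CommGroup A]
    [Finite A] (φ : H →* A) (hA : Nat.card A = q) {P : Subgroup G} (hP : SylowIn q P H)
    (hPc : IsCyclic P) {y : H} (hy : (y : G) ∈ P) (hyφ : φ y ≠ 1) :
    ∃ K : Subgroup H, (K.Normal ∧ ∀ x ∈ K, (x : G) ∈ P → x = 1) ∧
      K ⊔ P.subgroupOf H = ⊤ := by
  haveI := Fact.mk hq
  set S : Sylow q H := Sylow.ofCard (P.subgroupOf H) (by
    rw [Nat.card_congr (Subgroup.subgroupOfEquivOfLe hP.1).toEquiv, hP.2]) with hSdef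
  have hS : (S : Subgroup H) = P.subgroupOf H := rfl
  obtain ⟨g, hg⟩ := (Subgroup.isCyclic_iff_exists_zpowers_eq_top P).1 hPc
  have hgP : g ∈ P := hg ▸ Subgroup.mem_zpowers g
  set g' : H := ⟨g, hP.1 hgP⟩
  have hgen : ∀ x : H, x ∈ P.subgroupOf H → ∃ i : ℤ, x = g' ^ i := fun x hx => by
    obtain ⟨i, hi⟩ := Subgroup.mem_zpowers_iff.1 (hg.symm ▸ hx : (x : G) ∈ Subgroup.zpowers g)
    exact ⟨i, Subtype.ext (by rw [SubgroupClass.coe_zpow]; exact hi.symm)⟩
  have hgφ : φ g' ≠ 1 := fun e => hyφ (by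
    obtain ⟨i, hi⟩ := hgen y hy
    rw [hi, map_zpow, e, one_zpow])
  have horder : orderOf (φ g') = q :=
    (hq.eq_one_or_self_of_dvd _ (hA ▸ orderOf_dvd_natCard _)).resolve_left
      fun e => hgφ (orderOf_eq_one_iff.1 e)
  obtain ⟨k, hk⟩ : ∃ k, orderOf g' = q ^ k := by
    obtain ⟨k, hk⟩ := IsPGroup.iff_orderOf.1 hP.isPGroup ⟨g, hgP⟩
    exact ⟨k, by rw [Subgroup.orderOf_mk] at hk ⊢; exact hk⟩
  have hN' : Subgroup.normalizer ((S : Subgroup H) : Set H) ≤
      Subgroup.centralizer ((S : Subgroup H) : Set H) := by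
    intro n hn
    rw [hS] at hn ⊢
    have hmem : n * g' * n⁻¹ ∈ Subgroup.zpowers g' := by
      obtain ⟨i, hi⟩ := hgen _ ((Subgroup.mem_normalizer_iff.1 hn g').1 hgP)
      rw [hi]
      exact zpow_mem (Subgroup.mem_zpowers g') i
    obtain ⟨i, hi⟩ : ∃ i : ℕ, g' ^ i = n * g' * n⁻¹ := mem_powers_iff_mem_zpowers.2 hmem
    have hmod : i ≡ 1 [MOD q] := by
      have h1 : φ g' ^ i = φ g' ^ 1 := by
        rw [← map_pow, hi, map_mul, map_mul, map_inv, pow_one, mul_inv_cancel_comm]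
      rw [pow_eq_pow_iff_modEq, horder] at h1
      exact h1
    have hpowconj : ∀ m : ℕ, n ^ m * g' * (n ^ m)⁻¹ = g' ^ i ^ m := by
      intro m
      induction m with
      | zero => simp
      | succ m ih =>
        calc n ^ (m + 1) * g' * (n ^ (m + 1))⁻¹ = n * (n ^ m * g' * (n ^ m)⁻¹) * n⁻¹ := by
              rw [pow_succ']; group
          _ = n * g' ^ i ^ m * n⁻¹ := by rw [ih]
          _ = g' ^ i ^ (m + 1) := by rw [← conj_pow, ← hi, ← pow_mul, pow_succ']
    have hck : Commute (n ^ q ^ k) g' := by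
      have h1 : g' ^ i ^ q ^ k = g' ^ 1 := by
        rw [pow_eq_pow_iff_modEq, hk]
        have h0 : (q : ℤ) ∣ (i : ℤ) - (1 : ℕ) := Nat.modEq_iff_dvd.1 hmod.symm
        have h2 := dvd_sub_pow_of_dvd_sub h0 k
        refine (Nat.modEq_iff_dvd.2 ?_).symm
        push_cast at h2 ⊢
        rw [one_pow] at h2
        exact (pow_dvd_pow (q : ℤ) k.le_succ).trans h2
      have h2 := hpowconj (q ^ k)
      rw [h1, pow_one] at h2
      exact mul_inv_eq_iff_eq_mul.1 h2
    -- the part of `n` of `q`-power order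
    obtain ⟨c, r, hr, hnr⟩ :=
      Nat.exists_eq_pow_mul_and_not_dvd (orderOf_pos n).ne' q hq.ne_one
    have hr0 : r ≠ 0 := by
      rintro rfl
      exact hr (dvd_zero q)
    have hqpart : n ^ r ∈ P.subgroupOf H := by
      have hz : IsPGroup q (Subgroup.zpowers (n ^ r)) := by
        refine IsPGroup.of_card (n := c) ?_
        rw [Nat.card_zpowers, orderOf_pow_of_dvd hr0 (hnr ▸ dvd_mul_left r (q ^ c)), hnr,
          Nat.mul_div_cancel _ (Nat.pos_of_ne_zero hr0)]
      have h1 := S.3 (hz.to_sup_of_normal_right' S.2 (Subgroup.zpowers_le.2 (pow_mem hn r)))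
        le_sup_right
      rw [← hS]
      exact h1 ▸ Subgroup.mem_sup_left (Subgroup.mem_zpowers _)
    have hcr : Commute (n ^ r) g' := by
      obtain ⟨j, hj⟩ := hgen _ hqpart
      rw [hj]
      exact Commute.zpow_left (Commute.refl g') j
    have hcn : Commute n g' := by
      have hb := Nat.gcd_eq_gcd_ab (q ^ k) r
      rw [((hq.coprime_iff_not_dvd).2 hr |>.pow_left k).gcd_eq_one, Nat.cast_one] at hb
      have hn1 : n = (n ^ q ^ k) ^ Nat.gcdA (q ^ k) r * (n ^ r) ^ Nat.gcdB (q ^ k) r := by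
        rw [← zpow_natCast n (q ^ k), ← zpow_natCast n r, ← zpow_mul, ← zpow_mul, ← zpow_add, ← hb,
          zpow_one]
      rw [hn1]
      exact (hck.zpow_left _).mul_left (hcr.zpow_left _)
    refine Subgroup.mem_centralizer_iff.2 fun x hx => ?_
    obtain ⟨j, rfl⟩ := hgen x hx
    exact (hcn.zpow_right j).eq.symm
  have hcompl := MonoidHom.ker_transferSylow_isComplement' S hN'
  refine ⟨_, ⟨MonoidHom.normal_ker _, fun x hx hxP => ?_⟩, hcompl.sup_eq_top⟩
  exact Subgroup.disjoint_def.1 hcompl.disjoint hx hxP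

/-- Case III (2): the primes of `(D ∩ L)^ab`. -/
theorem propTop : PropTop.{u} := by
  intro G Ω _ _ _ a b h hab hW hc _ q N hq hN hidx
  haveI := Fact.mk hq
  haveI := hN
  haveI hcyc : IsCyclic (dL G a b ⧸ N) := isCyclic_of_prime_card (p := q)
    (by rw [← Subgroup.index_eq_card, hidx])
  letI : CommGroup (dL G a b ⧸ N) := IsCyclic.commGroup
  set φ := QuotientGroup.mk' N
  have hcardA : Nat.card (dL G a b ⧸ N) = q := (Subgroup.index_eq_card N).symm.trans hidx
  have hoddD : Odd (Nat.card (dL G a b)) :=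
    (h.fix.odd_pairStab hab.symm).of_dvd_nat (Subgroup.card_dvd_of_le inf_le_right)
  have hq2 : q ≠ 2 := by
    rintro rfl
    exact Nat.not_even_iff_odd.2 (hoddD.of_dvd_nat (hidx ▸ Subgroup.index_dvd_card N)) even_two
  obtain ⟨P, hP, -⟩ := SylowIn.exists_ge (D := dL G a b)
    (IsPGroup.of_bot : IsPGroup q (⊥ : Subgroup G)) bot_le
  obtain ⟨y, hy, hyφ⟩ : ∃ (y : dL G a b), (y : G) ∈ P ∧ φ y ≠ 1 := by
    by_contra! hall
    have h1 : P.subgroupOf (dL G a b) ≤ N := fun x hx =>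
      (QuotientGroup.eq_one_iff x).1 (hall x hx)
    have h2 := Subgroup.card_dvd_of_le h1
    rw [Nat.card_congr (Subgroup.subgroupOfEquivOfLe hP.1).toEquiv, hP.2] at h2
    have h3 : q ^ ((Nat.card (dL G a b)).factorization q + 1) ∣ Nat.card (dL G a b) := by
      have h4 := mul_dvd_mul (dvd_refl q) h2
      rw [← pow_succ'] at h4
      exact h4.trans (hidx ▸ dvd_of_eq N.index_mul_card)
    exact Nat.not_succ_le_self _ ((hq.pow_dvd_iff_le_factorization Nat.card_pos.ne').1 h3)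
  -- every element of order `q` is single
  have hallS : ∀ w ∈ P, w ≠ 1 → IsSingle (Subgroup.zpowers w) a := by
    by_contra! hex
    obtain ⟨w, hwP, hw1, hwns⟩ := hex
    refine not_dvd_others h hab hP hwP hw1 hwns ?_
    have h1 : φ y ^ Nat.card (others G a) = 1 := by
      refine pow_others_eq_one h hab hc (hcardA.symm ▸ hq.odd_of_ne_two hq2) φ y ?_
      intro k e hea he
      rcases eq_or_ne ((y : G) ^ k) 1 with hk | hk
      · obtain ⟨g, hg, hge⟩ := invGp_trans h hab hc hea hab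
        exact ⟨g, hg, hge, by rw [hk, mul_one, one_mul]⟩
      · obtain ⟨c, hcL, hcU, hce⟩ := trans_cent h hab hc hW hP hwP hw1 hwns
          (Subgroup.zpowers ((y : G) ^ k))
          (hP.isPGroup.to_le (Subgroup.zpowers_le.2 (pow_mem hy k)))
          (Subgroup.zpowers_ne_bot.2 hk) (Subgroup.zpowers_le.2 (pow_mem y.2.1 k))
          (Subgroup.zpowers_le.2 he) hea
          (Subgroup.zpowers_le.2 (pow_mem y.2.2.2 k)) hab
        exact ⟨c, hcL, hce,
          (Subgroup.mem_centralizer_iff.1 hcU _ (Subgroup.mem_zpowers _)).symm⟩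
    have h2 : orderOf (φ y) = q :=
      (hq.eq_one_or_self_of_dvd _ (hcardA ▸ orderOf_dvd_natCard _)).resolve_left
        fun e => hyφ (orderOf_eq_one_iff.1 e)
    exact h2 ▸ orderOf_dvd_of_pow_eq_one h1
  have hPD : P ≤ pairStab G a b := hP.1.trans inf_le_right
  have hPc : IsCyclic P := by
    by_contra hnc
    obtain ⟨w, hw, -, hw1, hwns⟩ := exists_nonsingle h hab hW hq2 hP.isPGroup hPD hnc
    exact hwns (hallS w hw hw1)
  have hP1 : P ≠ ⊥ := fun e => hyφ (by
    rw [e, Subgroup.mem_bot] at hy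
    rw [show y = 1 from Subtype.ext hy, map_one])
  refine ⟨P, hq, hP, hP1, hPc, fun X hXP hX1 => ?_, ?_⟩
  · obtain ⟨x, hx, hx1⟩ := X.bot_or_exists_ne_one.resolve_left hX1
    exact (hallS x (hXP hx) hx1).of_le hab h.fix (hP.isPGroup.to_le hXP)
      (Subgroup.zpowers_le.2 hx) (hXP.trans hPD)
  obtain ⟨K, hKP, hKsup⟩ := exists_normal_complement hq φ hcardA hP hPc hy hyφ
  refine ⟨K.map (dL G a b).subtype, Subgroup.map_subtype_le _, ?_, ?_, ?_⟩
  · refine eq_bot_iff.2 ?_
    rintro _ ⟨⟨x, hx, rfl⟩, hxP⟩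
    rw [show x = 1 from hKP.2 x hx hxP]
    exact one_mem _
  · have h1 := congrArg (Subgroup.map (dL G a b).subtype) hKsup
    rwa [Subgroup.map_sup, Subgroup.map_subgroupOf_eq_of_le hP.1, ← MonoidHom.range_eq_map,
      Subgroup.range_subtype] at h1
  · rintro d hd _ ⟨x, hx, rfl⟩
    exact ⟨⟨d, hd⟩ * x * ⟨d, hd⟩⁻¹, hKP.1.conj_mem x hx _, rfl⟩

end Cfsg.Agent.Lib.BenderOne8.Single
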