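import Mathlib

/-!
# An operator commuting with a unipotent one with a single fixed line

If `c` of `r`-power order fixes just a line of the elementary abelian `r`-group `V` and `τ`, of
order prime to `r`, commutes with `c`, then `τ` is scalar on `V`.
-/

set_option autoImplicit false

namespace Cfsg.Agent.Lib.BenderOne8.Single

universe u

variable {G : Type u} [Group G]

/-- Conjugation by an element of the normaliser as an endomorphism of the additive group. -/
def conjEnd (V : Subgroup G) {g : G} (hg : g ∈ Subgroup.normalizer (V : Set G)) :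
    AddMonoid.End (Additive V) :=
  MonoidHom.toAdditive
    { toFun := fun v => (⟨g * (v : G) * g⁻¹, (Subgroup.mem_normalizer_iff.1 hg v).1 v.2⟩ : V)
      map_one' := Subtype.ext (by simp)
      map_mul' := fun v w => Subtype.ext (by simp [mul_assoc]) }

theorem conjEnd_apply (V : Subgroup G) {g : G} (hg : g ∈ Subgroup.normalizer (V : Set G))
    (v : Additive V) :
    ((Additive.toMul (conjEnd V hg v) : V) : G) = g * ((Additive.toMul v : V) : G) * g⁻¹ := rfl

theorem conjEnd_pow (V : Subgroup G) {g : G} (hg : g ∈ Subgroup.normalizer (V : Set G)) (k : ℕ)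
    (v : Additive V) :
    ((Additive.toMul ((conjEnd V hg ^ k) v) : V) : G) =
      g ^ k * ((Additive.toMul v : V) : G) * (g ^ k)⁻¹ := by
  induction k generalizing v with
  | zero => simp
  | succ k ih =>
    rw [pow_succ', pow_succ']
    show g * ((Additive.toMul ((conjEnd V hg ^ k) v) : V) : G) * g⁻¹ = _
    rw [ih]
    group

/-- An element `τ` commuting with `c`, whose fixed points in `V` form the line of `v₀`, is scalar
on `V`. -/
theorem scalar_of_line [Finite G] {r : ℕ} [Fact r.Prime] (V : Subgroup G)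
    (hVr : ∀ v ∈ V, v ^ r = 1) (hVc : ∀ v ∈ V, ∀ w ∈ V, v * w = w * v) {c τ v₀ : G}
    (hc : c ∈ Subgroup.normalizer (V : Set G)) (hτ : τ ∈ Subgroup.normalizer (V : Set G))
    (hcr : ∃ k, c ^ r ^ k = 1) (hcomm : τ * c = c * τ) (hτr : (orderOf τ).Coprime r)
    (hv₀ : v₀ ∈ V) (hv₀1 : v₀ ≠ 1)
    (hline : ∀ v ∈ V, c * v = v * c → v ∈ Subgroup.zpowers v₀) {n : ℕ}
    (hn : τ * v₀ * τ⁻¹ = v₀ ^ n) : ∀ v ∈ V, τ * v * τ⁻¹ = v ^ n := by
  classical
  haveI : IsMulCommutative V := ⟨⟨fun a b => Subtype.ext (hVc a a.2 b b.2)⟩⟩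
  letI : CommGroup V := { (inferInstance : Group V) with mul_comm := fun a b => Subtype.ext (hVc a a.2 b b.2) }
  set E := AddMonoid.End (Additive V)
  set C : E := conjEnd V hc
  set T : E := conjEnd V hτ
  have hsmul : ∀ (k : ℕ) (x : Additive V),
      ((Additive.toMul ((k : E) x) : V) : G) = ((Additive.toMul x : V) : G) ^ k := by
    intro k x
    rw [AddMonoid.End.natCast_apply, toMul_nsmul, SubmonoidClass.coe_pow]
  have hext : ∀ {f g : E}, (∀ x, ((Additive.toMul (f x) : V) : G) = (Additive.toMul (g x) : V)) →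
      f = g := fun {f g} h => AddMonoidHom.ext fun x => Additive.toMul.injective (Subtype.ext (h x))
  haveI : CharP E r := by
    have hr0 : (r : E) = 0 := hext fun x => by
      rw [hsmul, hVr _ (Additive.toMul x).2]
      rfl
    refine ⟨fun k => ⟨fun hk => ?_, fun ⟨d, hd⟩ => by rw [hd, Nat.cast_mul, hr0, zero_mul]⟩⟩
    have h1 := congrArg (fun f : E => ((Additive.toMul (f (Additive.ofMul ⟨v₀, hv₀⟩)) : V) : G)) hk
    simp only [hsmul] at h1
    have h2 : orderOf v₀ = r := orderOf_eq_prime (hVr v₀ hv₀) hv₀1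
    exact h2 ▸ orderOf_dvd_of_pow_eq_one (h1.trans rfl)
  have hCT : Commute C T := hext fun x => by
    show c * (τ * ((Additive.toMul x : V) : G) * τ⁻¹) * c⁻¹ =
      τ * (c * ((Additive.toMul x : V) : G) * c⁻¹) * τ⁻¹
    calc c * (τ * ((Additive.toMul x : V) : G) * τ⁻¹) * c⁻¹
        = (c * τ) * ((Additive.toMul x : V) : G) * (c * τ)⁻¹ := by group
      _ = _ := by rw [← hcomm]; group
  obtain ⟨k, hk⟩ := hcr
  set N : E := C - 1
  set f : E := T - (n : E)
  have hN : N ^ r ^ k = 0 := by
    rw [sub_pow_char_pow_of_commute _ _ (Commute.one_right C), one_pow, sub_eq_zero]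
    refine hext fun x => ?_
    rw [conjEnd_pow, hk, one_mul, inv_one, mul_one]
    rfl
  have hNf : Commute f N :=
    (hCT.symm.sub_right (Commute.one_right T)).sub_left (Nat.cast_commute n N)
  have hker : ∀ x, N x = 0 → f x = 0 := by
    intro x hx
    have h1 : C x = x := sub_eq_zero.1 hx
    have h2 : c * ((Additive.toMul x : V) : G) = ((Additive.toMul x : V) : G) * c :=
      mul_inv_eq_iff_eq_mul.1 (congrArg (fun y : Additive V => ((Additive.toMul y : V) : G)) h1)
    obtain ⟨i, hi⟩ := Subgroup.mem_zpowers_iff.1 (hline _ (Additive.toMul x).2 h2)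
    show T x - (n : E) x = 0
    rw [sub_eq_zero]
    refine Additive.toMul.injective (Subtype.ext ?_)
    rw [hsmul]
    show τ * ((Additive.toMul x : V) : G) * τ⁻¹ = _
    rw [← hi, ← conj_zpow, hn, ← zpow_natCast, ← zpow_natCast, ← zpow_mul, ← zpow_mul, mul_comm]
  have hnil : ∀ (j : ℕ) (x : Additive V), (N ^ j) x = 0 → (f ^ j) x = 0 := by
    intro j
    induction j with
    | zero => exact fun x hx => hx
    | succ j ih =>
      intro x hx
      rw [pow_succ]
      refine ih (f x) ?_
      show (N ^ j * f) x = 0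
      rw [← (hNf.pow_right j).eq]
      show f ((N ^ j) x) = 0
      refine hker _ ?_
      rw [pow_succ'] at hx
      exact hx
  have hf : f ^ r ^ k = 0 := AddMonoidHom.ext fun x => hnil _ x (by rw [hN]; rfl)
  have hTn : T ^ r ^ k = (n : E) := by
    rw [sub_pow_char_pow_of_commute _ _ (Nat.cast_commute n T).symm, sub_eq_zero] at hf
    rw [hf]
    have hfer : ∀ j : ℕ, (n : E) ^ r ^ j = (n : E) := by
      intro j
      induction j with
      | zero => rw [pow_zero, pow_one]
      | succ j ih =>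
        rw [pow_succ, pow_mul, ih, ← Nat.cast_pow, CharP.natCast_eq_natCast E r,
          ← ZMod.natCast_eq_natCast_iff, Nat.cast_pow, ZMod.pow_card]
    exact hfer k
  obtain ⟨e, he⟩ := exists_pow_eq_self_of_coprime
    (x := τ) ((hτr.pow_right k).symm : (r ^ k).Coprime (orderOf τ))
  have hT : T = ((n ^ e : ℕ) : E) := by
    rw [Nat.cast_pow, ← hTn]
    refine hext fun x => ?_
    rw [← pow_mul, conjEnd_pow, pow_mul, he]
    rfl
  have hpow : ∀ v ∈ V, τ * v * τ⁻¹ = v ^ (n ^ e) := by
    intro v hv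
    have h1 := congrArg
      (fun g : E => ((Additive.toMul (g (Additive.ofMul ⟨v, hv⟩)) : V) : G)) hT
    simp only [hsmul] at h1
    exact h1
  intro v hv
  have h1 := hpow v₀ hv₀
  rw [hn, pow_eq_pow_iff_modEq, orderOf_eq_prime (hVr v₀ hv₀) hv₀1] at h1
  rw [hpow v hv]
  exact pow_eq_pow_iff_modEq.2
    (h1.symm.of_dvd (orderOf_dvd_of_pow_eq_one (hVr v hv)))

end Cfsg.Agent.Lib.BenderOne8.Single
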