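import Mathlib
import Cfsg.Agent.S3360

/-!
# Solvable groups transitive on the non-zero vectors over two elements

If such a group has a subgroup `X` acting faithfully whose only non-zero fixed vector is `t`, the
space has dimension `|X|` and `X` covers the stabiliser of `t` (`X` is the Galois group of the
field).  This is the argument of `BenderOne67.C2.Field.facts` without the point stabilisers.
-/

set_option autoImplicit false
set_option linter.style.haveILetI false

namespace Cfsg.Agent.Lib.BenderOne8.Single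

universe u v

/-- `2 ^ |X|` vectors, and `X` covers the stabiliser of `t`. -/
theorem galois_facts {H : Type u} [Group H] [Finite H] (hsol : Group.IsSolvable H) {V : Type v}
    [AddCommGroup V] [Module (ZMod 2) V] [Finite V] (ρ : H →* (V ≃ₗ[ZMod 2] V))
    (htrans : ∀ v w : V, v ≠ 0 → w ≠ 0 → ∃ h : H, ρ h v = w) {t : V} (ht : t ≠ 0)
    (X : Subgroup H) (hXt : ∀ x ∈ X, ρ x t = t) (hXinj : ∀ x ∈ X, ρ x = 1 → x = 1)
    (honly : ∀ v : V, v ≠ 0 → (∀ x ∈ X, ρ x v = v) → v = t) :
    Nat.card V = 2 ^ Nat.card X ∧ ∀ h : H, ρ h t = t → ∃ x ∈ X, ρ h = ρ x := by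
  haveI : Fact (Nat.Prime 2) := ⟨Nat.prime_two⟩
  haveI : Nontrivial V := ⟨⟨t, 0, ht⟩⟩
  have hsol' : Group.IsSolvable ρ.range := by
    haveI := hsol
    exact solvable_of_surjective ρ.rangeRestrict_surjective
  haveI : Finite ρ.range := Finite.of_surjective _ ρ.rangeRestrict_surjective
  rcases Cfsg.Agent.S3360.result 2 hsol' ρ.range.subtype ρ.range.subtype_injective
      (fun v w hv hw => (htrans v w hv hw).elim fun h hh => ⟨⟨ρ h, h, rfl⟩, hh⟩) with
    ⟨F, hF1, hF2, e, he⟩ | hex
  swap
  · exfalso
    have heven : 2 ∣ Nat.card V := by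
      have h2 : addOrderOf t = 2 := by
        refine addOrderOf_eq_prime ?_ ht
        rw [← Nat.cast_smul_eq_nsmul (ZMod 2), show ((2 : ℕ) : ZMod 2) = 0 from rfl, zero_smul]
      exact h2 ▸ addOrderOf_dvd_natCard _
    simp only [Set.mem_insert_iff, Set.mem_singleton_iff] at hex
    omega
  letI := hF1
  letI := hF2
  -- normalise the coordinate at `t`
  set c := e t with hc
  have hc0 : c ≠ 0 := fun h => ht (e.map_eq_zero_iff.1 h)
  set e' : V → F := fun v => c⁻¹ * e v with he'
  have he'inj : Function.Injective e' := fun v w h =>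
    e.injective (mul_left_cancel₀ (inv_ne_zero hc0) h)
  have he't : e' t = 1 := inv_mul_cancel₀ hc0
  have he2 : ∀ h : H, ∃ (A : F) (σ : F ≃+* F), ∀ v, e (ρ h v) = A * σ (e v) :=
    fun h => he ⟨ρ h, h, rfl⟩
  choose A₀ σ hσ using he2
  set A : H → F := fun h => e' (ρ h t) with hA
  have hA0 : ∀ h, A h ≠ 0 := fun h hz => ht ((ρ h).map_eq_zero_iff.1
    (he'inj (hz.trans (show (0 : F) = e' 0 by simp [he']))))
  have hact : ∀ (h : H) (v : V), e' (ρ h v) = A h * σ h (e' v) := by
    intro h v
    have h1 : σ h (e v) = σ h c * σ h (e' v) := by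
      rw [← map_mul, he', ← mul_assoc, mul_inv_cancel₀ hc0, one_mul]
    calc e' (ρ h v) = c⁻¹ * (A₀ h * σ h (e v)) := by rw [← hσ h v]
      _ = c⁻¹ * (A₀ h * σ h c) * σ h (e' v) := by rw [h1]; ring
      _ = A h * σ h (e' v) := by rw [hA]; simp only [he', hσ h t, ← hc]
  have hsurj : ∀ z : F, ∃ v, e' v = z := fun z => by
    obtain ⟨v, hv⟩ := e.surjective (c * z)
    exact ⟨v, by rw [he']; simp only; rw [hv, ← mul_assoc, inv_mul_cancel₀ hc0, one_mul]⟩
  have hA1 : A 1 = 1 := by rw [hA]; simp only [map_one, LinearEquiv.coe_one, id_eq, he't]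
  let π : H →* RingAut F :=
    { toFun := fun h => σ h
      map_one' := RingEquiv.ext fun z => by
        obtain ⟨v, rfl⟩ := hsurj z
        have h := hact 1 v
        rw [hA1, one_mul, map_one] at h
        exact h.symm
      map_mul' := fun g h => RingEquiv.ext fun z => by
        obtain ⟨v, rfl⟩ := hsurj z
        have h1 := hact (g * h) v
        have h2 : A (g * h) = A g * σ g (A h) := by
          rw [hA]; simp only [map_mul, LinearEquiv.mul_apply]; exact hact g _
        rw [h2, map_mul ρ, LinearEquiv.mul_apply, hact g, hact h v, map_mul, ← mul_assoc] at h1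
        exact (mul_left_cancel₀ (mul_ne_zero (hA0 g) (fun hz => hA0 h ((σ g).map_eq_zero_iff.1 hz)))
          h1).symm }
  have hπ : ∀ h, π h = σ h := fun h => rfl
  -- an element fixing `t` is determined by its automorphism
  have hY : ∀ h : H, ρ h t = t → A h = 1 := fun h hh => by rw [hA]; simp only [hh, he't]
  have hYeq : ∀ g h : H, ρ g t = t → ρ h t = t → π g = π h → ρ g = ρ h := by
    intro g h hg hh hgh
    refine LinearEquiv.ext fun v => he'inj ?_
    rw [hact, hact, hY g hg, hY h hh, ← hπ, ← hπ, hgh]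
  let θ : X →* RingAut F := π.comp X.subtype
  have hθ : Function.Injective θ := (injective_iff_map_eq_one θ).2 fun x hx => by
    refine Subtype.ext (hXinj _ x.2 ?_)
    rw [hYeq x 1 (hXt _ x.2) (by simp) (hx.trans (map_one π).symm), map_one]
  haveI : Finite (RingAut F) := Finite.of_injective (fun f => (f : F → F)) DFunLike.coe_injective
  letI := Fintype.ofFinite θ.range
  have hcardF : Nat.card F = Nat.card V := (Nat.card_congr e.toEquiv).symm
  have hfix : ∀ z : F, (∀ g : θ.range, g • z = z) → z = 0 ∨ z = 1 := by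
    intro z hz
    obtain ⟨v, rfl⟩ := hsurj z
    by_cases hv : v = 0
    · left; rw [hv, he']; simp
    refine Or.inr (he't ▸ congrArg e' (honly v hv fun x hx => he'inj ?_))
    have h1 : σ x (e' v) = e' v := hz ⟨θ ⟨x, hx⟩, ⟨⟨x, hx⟩, rfl⟩⟩
    rw [hact, hY x (hXt x hx), one_mul, h1]
  have hjX : Nat.card V = 2 ^ Nat.card X := by
    set S := FixedPoints.subfield θ.range F with hSdef
    have hS : Nat.card S = 2 := by
      rw [Nat.card_eq_two_iff' (0 : S)]
      refine ⟨1, one_ne_zero, fun z hz => ?_⟩
      rcases hfix (z : F) fun g => z.2 g with h | h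
      · exact absurd (Subtype.ext h) hz
      · exact Subtype.ext h
    haveI : FaithfulSMul θ.range F :=
      ⟨fun {g g'} h => Subtype.ext (RingEquiv.ext h)⟩
    have h := Module.natCard_eq_pow_finrank (K := S) (V := F)
    rwa [hS, FixedPoints.finrank_eq_card, hcardF, ← Nat.card_eq_fintype_card,
      ← Nat.card_congr (MonoidHom.ofInjective hθ).toEquiv] at h
  refine ⟨hjX, fun h hh => ?_⟩
  have hrange : π h ∈ θ.range := by
    letI := Fintype.ofFinite π.range
    haveI : FaithfulSMul π.range F :=
      ⟨fun {g g'} h => Subtype.ext (RingEquiv.ext h)⟩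
    set S := FixedPoints.subfield π.range F with hSdef
    have h' := Module.natCard_eq_pow_finrank (K := S) (V := F)
    rw [FixedPoints.finrank_eq_card, hcardF, hjX, ← Nat.card_eq_fintype_card] at h'
    have h2 : 2 ≤ Nat.card S := Finite.one_lt_card
    have hle : Nat.card π.range ≤ Nat.card θ.range := by
      rw [← Nat.card_congr (MonoidHom.ofInjective hθ).toEquiv,
        ← Nat.pow_le_pow_iff_right (show 1 < 2 by norm_num), h']
      exact Nat.pow_le_pow_left h2 _
    have heq : θ.range = π.range :=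
      Subgroup.eq_of_le_of_card_ge (by rintro _ ⟨x, rfl⟩; exact ⟨_, rfl⟩) hle
    exact heq.ge ⟨h, rfl⟩
  obtain ⟨x, hx⟩ := hrange
  exact ⟨x, x.2, hYeq h x hh (hXt _ x.2) hx.symm⟩

end Cfsg.Agent.Lib.BenderOne8.Single
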