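import Mathlib
import Cfsg.Agent.Lib.BenderOne8.Single.TwoElements
import Cfsg.Agent.Lib.Coprime.Conjugacy

/-!
# Bender's theorem, part one, node C2: swappers and involutions with the same centraliser in `D`

`notes/bender_nodeC2_shape_helper8.md`, step 1.
-/

set_option autoImplicit false
set_option linter.style.haveILetI false
set_option linter.unusedSectionVars false

namespace Cfsg.Agent.Lib.BenderOne8.Single

open MulAction Cfsg.Agent.Lib.Involutions.Basic
open Cfsg.Agent.Lib.BenderOne20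

universe u

variable {G Ω : Type u} [Group G] [MulAction G Ω] [Finite G]

/-- What centralises a swapper in `D` centralises some involution at `a`. -/
theorem exists_invAt_le (h : Ctx G Ω) {a b : Ω} (hab : b ≠ a) {u : G} (hu : u ∈ swapSet G a b) :
    ∃ s ∈ invAt G a, pairStab G a b ⊓ Subgroup.centralizer {u} ≤ Subgroup.centralizer {s} := by
  set Y := pairStab G a b ⊓ Subgroup.centralizer {u}
  rcases eq_or_ne Y ⊥ with hY | hY
  · obtain ⟨s, hs⟩ := h.fix.exists_invAt a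
    exact ⟨s, hs, hY ▸ bot_le⟩
  obtain ⟨c, hc⟩ := h.fix.exists_fix hu.1
  have hca : c ≠ a := fun e => hab (by rw [e] at hc; exact hu.2.symm.trans hc)
  have hcb : c ≠ b := fun e => hab (by
    rw [e] at hc
    exact hc.symm.trans (smul_swap hu))
  haveI : Group.IsSolvable Y :=
    OddOrder.FeitThompson.isSolvable_of_odd_card ((h.fix.odd_pairStab hab.symm).of_dvd_nat
      (Subgroup.card_dvd_of_le inf_le_left))
  obtain ⟨p, M, hp, hM1, hMY, hYM, hMp⟩ := Coprime.exists_normal_pSubgroup hY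
  haveI := Fact.mk hp
  have hfix : ∀ y ∈ Y, y • a = a ∧ y • b = b ∧ y • c = c := fun y hy =>
    ⟨hy.1.1, hy.1.2, h.fix.smul_eq_of_commute ⟨hu.1, hc⟩
      (Subgroup.mem_centralizer_singleton_iff.1 hy.2).symm⟩
  have haM : a ∈ Fx M := fun y hy => (hfix y (hMY hy)).1
  have hbM : b ∈ Fx M := fun y hy => (hfix y (hMY hy)).2.1
  have hcM : c ∈ Fx M := fun y hy => (hfix y (hMY hy)).2.2
  have h3 : Three M Ω := ⟨a, b, c, hab.symm, hca, hcb, haM, hbM, hcM⟩
  obtain ⟨s₀, hs₀⟩ := exists_cen h.fix h.propF hMp h3 haM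
  haveI : Nonempty ↥(invCen M a) := ⟨⟨s₀, hs₀⟩⟩
  have hconj : ∀ y ∈ Y, ∀ {r : G}, r ∈ invCen M a → y * r * y⁻¹ ∈ invCen M a := by
    intro y hy r hr
    refine ⟨?_, cen_conj (hYM hy) hr.2⟩
    have h1 := OneFix.conj_mem_invAt (g := y) hr.1
    rwa [(hfix y hy).1] at h1
  rcases Nat.eq_or_lt_of_le (show 1 ≤ Nat.card (invCen M a) from Nat.card_pos) with h1 | h1
  · haveI := (Nat.card_eq_one_iff_unique.1 h1.symm).1
    refine ⟨s₀, hs₀.1, fun y hy => Subgroup.mem_centralizer_singleton_iff.2 ?_⟩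
    exact mul_inv_eq_iff_eq_mul.1 (congrArg Subtype.val (Subsingleton.elim
      (⟨_, hconj y hy hs₀⟩ : invCen M a) ⟨s₀, hs₀⟩))
  obtain ⟨Q, hQle, hQmem, hQtwo, hQtr⟩ := hasQ_good h hMp hM1 h3 haM h1
  obtain ⟨x, hx, hxb⟩ := hQtr b c hbM hab hcM hca
  obtain ⟨k, hk⟩ := hQtwo x hx
  have hxY : ∀ y ∈ Y, y * x = x * y := by
    intro y hy
    obtain ⟨hya, hyb, hyc⟩ := hfix y hy
    have hxa : x • a = a := (hQle hx).1
    have hmem : y * x * y⁻¹ ∈ Q := by
      refine hQmem _ ?_ (Subgroup.mem_centralizer_iff.2 fun m hm => ?_)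
        ⟨k, by rw [conj_pow, hk, mul_one, mul_inv_cancel]⟩
      · rw [mul_smul, mul_smul, inv_smul_eq_iff.2 hya.symm, hxa, hya]
      · have h1 := Subgroup.mem_centralizer_iff.1 (hQle hx).2 _
          ((Subgroup.mem_normalizer_iff''.1 (hYM hy) m).1 hm)
        calc m * (y * x * y⁻¹) = y * (y⁻¹ * m * y * x) * y⁻¹ := by group
          _ = y * x * y⁻¹ * m := by rw [h1]; group
    have he : x⁻¹ * (y * x * y⁻¹) = 1 := by
      refine eq_one_of_fix h.fix hab ((stabilizer G a).mul_mem ((stabilizer G a).inv_mem hxa)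
        (hQle hmem).1) ?_ (hQtwo _ (mul_mem (inv_mem hx) hmem))
      rw [mul_smul, inv_smul_eq_iff, mul_smul, mul_smul, inv_smul_eq_iff.2 hyb.symm, hxb, hyc]
    rw [inv_mul_eq_one] at he
    exact mul_inv_eq_iff_eq_mul.1 he.symm
  obtain ⟨j, -, hj⟩ := (Nat.dvd_prime_pow Nat.prime_two).1 (orderOf_dvd_of_pow_eq_one hk)
  have hj0 : j ≠ 0 := by
    rintro rfl
    rw [pow_zero, orderOf_eq_one_iff] at hj
    rw [hj, one_smul] at hxb
    exact hcb hxb.symm
  refine ⟨x ^ 2 ^ (j - 1), ⟨?_, (stabilizer G a).pow_mem (hQle hx).1 _⟩,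
    fun y hy => Subgroup.mem_centralizer_singleton_iff.2
      ((show Commute y x from hxY y hy).pow_right _).eq⟩
  rw [orderOf_pow_of_dvd (pow_ne_zero _ two_ne_zero) (hj ▸ pow_dvd_pow 2 (Nat.sub_le j 1)), hj,
    Nat.pow_div (Nat.sub_le j 1) two_pos, show j - (j - 1) = 1 by omega, pow_one]

/-- A swapper centralised by a single subgroup has the centraliser in `D` of its involution. -/
theorem pairing (h : Ctx G Ω) {a b : Ω} (hab : b ≠ a) {u t : G} (hu : u ∈ swapSet G a b)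
    {X : Subgroup G} (hX : IsSingle X a) (hXD : X ≤ pairStab G a b)
    (hXu : X ≤ Subgroup.centralizer {u}) (ht : t ∈ invCen X a) :
    pairStab G a b ⊓ Subgroup.centralizer {u} = pairStab G a b ⊓ Subgroup.centralizer {t} := by
  obtain ⟨s, hs, hle⟩ := exists_invAt_le h hab hu
  obtain ⟨hsub, -⟩ := Nat.card_eq_one_iff_unique.1 hX.2.2
  have hst : s = t := congrArg Subtype.val
    (hsub.elim ⟨s, hs, fun x hx => hle ⟨hXD hx, hXu hx⟩⟩ ⟨t, ht⟩)
  subst hst
  refine Subgroup.eq_of_le_of_card_ge (le_inf inf_le_left hle) (le_of_eq ?_)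
  have h1 := (h.fix.card_pairStab_swap hab.symm hu).symm.trans
    (h.fix.card_pairStab_invAt hab.symm hs)
  exact (Nat.eq_of_mul_eq_mul_left
    (lt_of_lt_of_le one_pos (h.card_invAt a).le) h1).symm

end Cfsg.Agent.Lib.BenderOne8.Single
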